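import Cfsg.Agent.Lib.CompLen.Perm
import Cfsg.Agent.Lib.Perm.Basic
import Mathlib.GroupTheory.PGroup
import Mathlib.GroupTheory.Sylow
import Mathlib.GroupTheory.Perm.Basic
import Mathlib.Data.Fintype.Perm
import Mathlib.Tactic.IntervalCases
import Mathlib.Tactic.NormNum.Prime

/-!
Composition length of primitive groups with an abelian minimal normal subgroup.
-/

set_option autoImplicit false

namespace CfsgLib.CompLen

open MulAction Equiv

theorem sq_mul_le_pow {p : ℕ} (hp : 3 ≤ p) : ∀ d, 2 ≤ d → (p - 1) * d ^ 2 + 1 ≤ p ^ d := by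
  intro d hd
  induction d, hd using Nat.le_induction with
  | base =>
    obtain ⟨q, rfl⟩ : ∃ q, p = q + 3 := ⟨p - 3, by omega⟩
    rw [show q + 3 - 1 = q + 2 by omega]
    ring_nf
    omega
  | succ d hd ih =>
    have h1 : (d + 1) ^ 2 ≤ 3 * d ^ 2 := by
      have h2 : 2 * d ≤ d * d := Nat.mul_le_mul_right d hd
      rw [pow_two, pow_two, add_mul, mul_add]
      omega
    have h2 : (p - 1) * (d + 1) ^ 2 ≤ 3 * ((p - 1) * d ^ 2) := by
      rw [mul_left_comm]
      exact Nat.mul_le_mul_left _ h1
    have h3 : p * ((p - 1) * d ^ 2 + 1) ≤ p * p ^ d := Nat.mul_le_mul_left _ ih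
    have h4 : 3 * ((p - 1) * d ^ 2) ≤ p * ((p - 1) * d ^ 2) := Nat.mul_le_mul_right _ hp
    rw [pow_succ' p d]
    rw [mul_add, mul_one] at h3
    omega

theorem two_pow_bound : ∀ d, 4 ≤ d → 3 * d ^ 2 + 3 * d + 1 ≤ 4 * 2 ^ d := by
  intro d hd
  induction d, hd using Nat.le_induction with
  | base => norm_num
  | succ d hd ih =>
    have h : 4 * d ≤ d * d := Nat.mul_le_mul_right d hd
    rw [pow_two] at ih
    rw [pow_succ 2 d, pow_two, show (d + 1) * (d + 1) = d * d + 2 * d + 1 by ring]
    omega

/-- The arithmetic of the affine case. -/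
theorem affine_numeric {p d c : ℕ} (hp : p.Prime) (hd : 2 ≤ d)
    (hsmall : 2 ^ c < (p ^ d) ^ d) (h23 : p = 2 → d = 3 → c ≤ 6)
    (hrec : 3 * c + 4 ≤ 4 * (p ^ d - 1)) : 3 * (d + c) + 4 ≤ 4 * p ^ d := by
  by_cases hp3 : 3 ≤ p
  · have hc : c < (p - 1) * (d * d) := by
      have h1 : (p ^ d) ^ d ≤ (2 ^ (p - 1)) ^ (d * d) := by
        rw [← pow_mul]
        refine Nat.pow_le_pow_left ?_ _
        have := (p - 1).lt_two_pow_self
        omega
      rw [← pow_mul 2] at h1
      exact (Nat.pow_lt_pow_iff_right (by norm_num)).1 (hsmall.trans_le h1)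
    have h2 := sq_mul_le_pow hp3 d hd
    have h3 : 3 * d ≤ (p - 1) * (d * d) := by
      calc 3 * d ≤ (2 * 2) * d := Nat.mul_le_mul_right _ (by norm_num)
        _ ≤ ((p - 1) * d) * d := Nat.mul_le_mul_right _ (Nat.mul_le_mul (by omega) hd)
        _ = (p - 1) * (d * d) := mul_assoc _ _ _
    rw [pow_two] at h2
    omega
  · obtain rfl : p = 2 := by have := hp.two_le; omega
    rcases Nat.lt_or_ge d 4 with h | h
    · interval_cases d
      · norm_num at hrec ⊢; omega
      · have := h23 rfl rfl
        norm_num; omega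
    · rw [← pow_mul] at hsmall
      have hc : c < d * d := (Nat.pow_lt_pow_iff_right (by norm_num)).1 hsmall
      have h2 := two_pow_bound d h
      rw [pow_two] at h2
      omega

/-- The length of a prime factorisation bounds the composition length. -/
theorem two_pow_cl_le : ∀ (n : ℕ) (G : Type) [Group G] [Finite G], Nat.card G ≤ n → 2 ^ cl G ≤ Nat.card G
  | 0, G, _, _, h => absurd h (Nat.not_le.2 Nat.card_pos)
  | n + 1, G, _, _, h => by
    by_cases hG : cl G = 0
    · rw [hG, pow_zero]; exact Nat.card_pos
    obtain ⟨N, hN, hNtop, hNc⟩ := exists_cl_pred hG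
    have h2 : 2 ≤ N.index := by
      have h1 : N.index ≠ 1 := fun h' => hNtop (Subgroup.index_eq_one.1 h')
      have h0 : N.index ≠ 0 := Subgroup.index_ne_zero_of_finite
      omega
    have hlt : Nat.card N < Nat.card G := by
      rw [← Subgroup.card_mul_index N]
      exact lt_mul_of_one_lt_right Nat.card_pos (by omega)
    have ih := two_pow_cl_le n N (by omega)
    rw [← Subgroup.card_mul_index N, ← hNc, pow_succ]
    exact Nat.mul_le_mul ih h2

theorem cl_le_primeFactors : ∀ (n : ℕ) (G : Type) [Group G] [Finite G], Nat.card G ≤ n →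
    cl G ≤ (Nat.card G).primeFactorsList.length
  | 0, G, _, _, h => absurd h (Nat.not_le.2 Nat.card_pos)
  | n + 1, G, _, _, h => by
    by_cases hG : cl G = 0
    · omega
    obtain ⟨N, hN, hNtop, hNc⟩ := exists_cl_pred hG
    have h0 : N.index ≠ 0 := Subgroup.index_ne_zero_of_finite
    have h1 : N.index ≠ 1 := fun h' => hNtop (Subgroup.index_eq_one.1 h')
    have hlt : Nat.card N < Nat.card G := by
      rw [← Subgroup.card_mul_index N]
      exact lt_mul_of_one_lt_right Nat.card_pos (by omega)
    have ih := cl_le_primeFactors n N (by omega)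
    have hlen : 1 ≤ N.index.primeFactorsList.length := by
      rcases hl : N.index.primeFactorsList with _ | ⟨x, l⟩
      · rcases (Nat.primeFactorsList_eq_nil _).1 hl with h' | h'
        · exact absurd h' h0
        · exact absurd h' h1
      · simp
    rw [← Subgroup.card_mul_index N,
      (Nat.perm_primeFactorsList_mul Nat.card_pos.ne' h0).length_eq, List.length_append]
    omega

/-- A subgroup of index `p ^ j` in a `p`-group is completed by `j` elements outside it. -/
theorem exists_generators {p : ℕ} [hp : Fact p.Prime] {N : Type} [Group N] [Finite N]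
    (hN : IsPGroup p N) : ∀ (j : ℕ) (H : Subgroup N), H.index ≤ p ^ j →
      ∃ v : Fin j → N, (∀ i, v i = 1 → H = ⊤) ∧ H ⊔ Subgroup.closure (Set.range v) = ⊤
  | 0, H, h => by
    refine ⟨Fin.elim0, fun i => i.elim0, ?_⟩
    have h0 : H.index ≠ 0 := Subgroup.index_ne_zero_of_finite
    rw [pow_zero] at h
    rw [Subgroup.index_eq_one.1 (by omega : H.index = 1), top_sup_eq]
  | j + 1, H, h => by
    by_cases hH : H = ⊤
    · exact ⟨fun _ => 1, fun _ _ => hH, by rw [hH, top_sup_eq]⟩
    obtain ⟨x, hx⟩ : ∃ x, x ∉ H := by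
      by_contra hcon
      push Not at hcon
      exact hH (eq_top_iff.2 fun x _ => hcon x)
    set H' := H ⊔ Subgroup.zpowers x with hH'
    have hle : H ≤ H' := le_sup_left
    have hrel : p ≤ H.relIndex H' := by
      have h1 : H.relIndex H' ≠ 1 := fun h' =>
        hx (Subgroup.relIndex_eq_one.1 h' (Subgroup.mem_sup_right (Subgroup.mem_zpowers x)))
      obtain ⟨i, hi⟩ := (hN.to_subgroup H').index (H.subgroupOf H') 
      have hi' : H.relIndex H' = p ^ i := hi
      rcases i with _ | i
      · exact absurd (by simpa using hi') h1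
      · rw [hi', pow_succ]
        exact Nat.le_mul_of_pos_left _ (pow_pos hp.out.pos _)
    have hidx : H'.index ≤ p ^ j := by
      have h2 := Subgroup.relIndex_mul_index hle
      have h3 : p * H'.index ≤ p * p ^ j := by
        calc p * H'.index ≤ H.relIndex H' * H'.index := Nat.mul_le_mul_right _ hrel
          _ = H.index := h2
          _ ≤ p ^ (j + 1) := h
          _ = p * p ^ j := pow_succ' _ _
      exact Nat.le_of_mul_le_mul_left h3 hp.out.pos
    obtain ⟨v, hv, hgen⟩ := exists_generators hN j H' hidx
    by_cases hH'top : H' = ⊤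
    · refine ⟨fun _ => x, fun i hi => absurd (show x ∈ H by rw [show x = 1 from hi]; exact H.one_mem) hx, ?_⟩
      rw [Set.range_const, ← Subgroup.zpowers_eq_closure]
      exact hH'top
    · refine ⟨Fin.cons x v, fun i => ?_, ?_⟩
      · refine Fin.cases ?_ (fun i => ?_) i
        · intro hi
          rw [Fin.cons_zero] at hi
          exact absurd (show x ∈ H by rw [hi]; exact H.one_mem) hx
        · intro hi
          rw [Fin.cons_succ] at hi
          exact absurd (hv i hi) hH'top
      · rw [Fin.range_cons, Set.insert_eq, Subgroup.closure_union, ← Subgroup.zpowers_eq_closure,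
          ← sup_assoc]
        exact hgen

/-- Primitive groups with an abelian minimal normal subgroup. -/
theorem bound_abelian {n : ℕ} (ih : BoundBelow n) {α : Type} [Finite α] (G : Subgroup (Perm α))
    (hn : Nat.card α = n) (h2 : 2 ≤ n) [IsPreprimitive G α] (N : Subgroup G) [N.Normal] (hN : N ≠ ⊥)
    (hmin : ∀ L : Subgroup G, L.Normal → L ≤ N → L = ⊥ ∨ L = N) (hab : IsMulCommutative N) :
    3 * cl G + 4 ≤ 4 * n := by
  classical
  haveI : FaithfulSMul G α := ⟨fun h => Subtype.ext (Equiv.ext h)⟩
  haveI : IsPretransitive N α := CfsgLib.Perm.isPretransitive_of_normal N hN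
  obtain ⟨p, hp, hexp⟩ := CfsgLib.Perm.exists_prime_exponent_of_minimal hN hmin hab
  haveI : Fact p.Prime := ⟨hp⟩
  have hPN : IsPGroup p N := fun m => ⟨1, Subtype.ext (by simpa using hexp m m.2)⟩
  obtain ⟨d, hd⟩ := IsPGroup.iff_card.1 hPN
  haveI : Nonempty α := (Nat.card_pos_iff.1 (by omega)).1
  obtain ⟨a⟩ : Nonempty α := inferInstance
  -- `N` is regular
  have hreg : ∀ u : G, u ∈ N → u • a = a → u = 1 := by
    intro u hu hua
    refine Subtype.ext (Equiv.ext fun x => ?_)
    obtain ⟨v, rfl⟩ := MulAction.exists_smul_eq N a x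
    show u • (v : G) • a = (v : G) • a
    have hc : u * (v : G) = (v : G) * u := congrArg Subtype.val (hab.is_comm.comm ⟨u, hu⟩ v)
    rw [← mul_smul, hc, mul_smul, hua]
  have hcard : Nat.card N = n := by
    rw [← hn]
    refine Nat.card_congr (Equiv.ofBijective (fun u : N => u • a) ⟨fun u v huv => ?_, fun x => MulAction.exists_smul_eq N a x⟩)
    have := hreg _ (v⁻¹ * u).2 (by
      show (v⁻¹ * u) • a = a
      rw [mul_smul, show u • a = v • a from huv, inv_smul_smul])
    exact (inv_mul_eq_one.1 (Subtype.ext this : v⁻¹ * u = 1)).symm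
  have hnd : n = p ^ d := hcard.symm.trans hd
  have hclN : cl N ≤ d := by
    have h := cl_le_primeFactors _ N le_rfl
    rwa [hd, hp.primeFactorsList_pow, List.length_replicate] at h
  -- the quotient is an image of the point stabilizer
  set φ := (QuotientGroup.mk' N).comp (stabilizer G a).subtype with hφ
  have hsurj : Function.Surjective φ := by
    intro q
    obtain ⟨g, rfl⟩ := QuotientGroup.mk'_surjective N q
    obtain ⟨⟨u, hu⟩, hug⟩ := MulAction.exists_smul_eq N a (g • a)
    refine ⟨⟨u⁻¹ * g, ?_⟩, ?_⟩
    · rw [mem_stabilizer_iff, mul_smul, ← hug]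
      exact inv_smul_smul u a
    · show QuotientGroup.mk' N (u⁻¹ * g) = QuotientGroup.mk' N g
      rw [map_mul, map_inv, QuotientGroup.mk'_apply, (QuotientGroup.eq_one_iff u).2 hu, inv_one, one_mul]
  have h3 := cl_surjective_le φ hsurj
  have h4 := cl_le_add _ G le_rfl N
  have h5 := bound_stabilizer ih G hn h2 a
  set c := cl (stabilizer G a) with hc
  rcases Nat.lt_or_ge d 2 with hd2 | hd2
  · omega
  -- the stabilizer embeds by conjugation of generators
  have hNn : (⊥ : Subgroup N).index ≤ p ^ d := by rw [Subgroup.index_bot, hd]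
  obtain ⟨v, hv1, hgen⟩ := exists_generators hPN d ⊥ hNn
  rw [bot_sup_eq] at hgen
  haveI : Nontrivial N := (Subgroup.nontrivial_iff_ne_bot N).2 hN
  have hv : ∀ i, v i ≠ 1 := fun i h => bot_ne_top (hv1 i h)
  let ψ : stabilizer G a → (Fin d → {u : N // u ≠ 1}) := fun g i =>
    ⟨MulAut.conjNormal (g : G) (v i), fun h => hv i ((MulEquiv.map_eq_one_iff _).1 h)⟩
  have hψ : Function.Injective ψ := by
    intro g g' h
    have hfix : ∀ u : N, MulAut.conjNormal (g : G) u = MulAut.conjNormal (g' : G) u := by
      intro u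
      refine DFunLike.congr_fun (MonoidHom.eq_of_eqOn_dense hgen
        (f := (MulAut.conjNormal (g : G) : MulAut N).toMonoidHom)
        (g := (MulAut.conjNormal (g' : G) : MulAut N).toMonoidHom) ?_) u
      rintro _ ⟨i, rfl⟩
      exact congrArg Subtype.val (congrFun h i)
    apply Subtype.ext; apply Subtype.ext
    refine Equiv.ext fun x => ?_
    obtain ⟨u, rfl⟩ := MulAction.exists_smul_eq N a x
    have e := congrArg Subtype.val (hfix u)
    rw [MulAut.conjNormal_apply, MulAut.conjNormal_apply] at e
    show (g : G) • (u : G) • a = (g' : G) • (u : G) • a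
    calc (g : G) • (u : G) • a = ((g : G) * u * (g : G)⁻¹) • (g : G) • a := by
          rw [← mul_smul, ← mul_smul, inv_mul_cancel_right]
      _ = ((g' : G) * u * (g' : G)⁻¹) • (g' : G) • a := by rw [e, g.2, g'.2]
      _ = (g' : G) • (u : G) • a := by rw [← mul_smul, ← mul_smul, inv_mul_cancel_right]
  have hne1 : Nat.card {u : N // u ≠ 1} + 1 = n := by
    have h := Nat.card_congr (Equiv.sumCompl fun u : N => u = 1)
    rw [Nat.card_sum, Nat.card_unique, hcard, add_comm] at h
    exact h
  have hle := Nat.card_le_card_of_injective ψ hψ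
  rw [Nat.card_fun, Nat.card_eq_fintype_card (α := Fin d), Fintype.card_fin] at hle
  have hsmall : 2 ^ c < (p ^ d) ^ d :=
    lt_of_le_of_lt ((two_pow_cl_le _ _ le_rfl).trans hle)
      (Nat.pow_lt_pow_left (by omega) (by omega))
  have h23 : p = 2 → d = 3 → c ≤ 6 := by
    intro hp2 hd3
    subst hp2; subst hd3
    have hn8 : n = 8 := by rw [hnd]; norm_num
    have h343 : Nat.card (stabilizer G a) ≤ 343 := by
      refine hle.trans ?_
      rw [show Nat.card {u : N // u ≠ 1} = 7 by omega]
      norm_num
    have hdvd : Nat.card (stabilizer G a) ∣ 5040 := by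
      have hcard7 : Nat.card {x : α // x ≠ a} = 7 := by
        have h := Nat.card_congr (Equiv.sumCompl fun x : α => x = a)
        rw [Nat.card_sum, Nat.card_unique, hn, add_comm] at h
        exact Nat.add_right_cancel (m := 1) (h.trans hn8)
      let ρ : stabilizer G a →* Perm {x : α // x ≠ a} :=
        { toFun := fun g => ((g : G) : Perm α).subtypePerm fun x => by
            refine not_congr ⟨fun h => ?_, fun h => ?_⟩
            · have h' : (g : G) • x = (g : G) • a := h.trans g.2.symm
              exact (smul_left_cancel_iff _).1 h'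
            · subst h; exact g.2
          map_one' := by ext x; rfl
          map_mul' := fun g g' => by ext x; rfl }
      have hρ : Function.Injective ρ := by
        intro g g' h
        apply Subtype.ext; apply Subtype.ext
        refine Equiv.ext fun x => ?_
        by_cases hx : x = a
        · subst hx; exact g.2.trans g'.2.symm
        · exact congrArg Subtype.val (Equiv.ext_iff.1 h ⟨x, hx⟩)
      have h := Subgroup.card_dvd_of_injective ρ hρ
      rwa [Nat.card_perm, hcard7] at h
    obtain ⟨q, hq⟩ := hdvd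
    have hlen := cl_le_primeFactors _ (stabilizer G a) le_rfl
    have hq0 : q ≠ 0 := by rintro rfl; simp at hq
    have h8 : ((Nat.card (stabilizer G a)).primeFactorsList).length + q.primeFactorsList.length = 8 := by
      rw [← List.length_append, ← (Nat.perm_primeFactorsList_mul Nat.card_pos.ne' hq0).length_eq, ← hq]
      have h5040 : (5040 : ℕ).primeFactorsList.Perm [2, 2, 2, 2, 3, 3, 5, 7] :=
        (Nat.primeFactorsList_unique (by norm_num) (by norm_num)).symm
      rw [h5040.length_eq]
      rfl
    have hq15 : 15 ≤ q := by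
      by_contra hlt
      have h' : Nat.card (stabilizer G a) * q ≤ 343 * 14 := Nat.mul_le_mul h343 (by omega)
      omega
    have hq2 : 2 ≤ q.primeFactorsList.length := by
      rcases hl : q.primeFactorsList with _ | ⟨x, _ | ⟨y, l⟩⟩
      · rcases (Nat.primeFactorsList_eq_nil _).1 hl with h' | h' <;> omega
      · exfalso
        have hx := Nat.prod_primeFactorsList hq0
        rw [hl, List.prod_singleton] at hx
        subst hx
        have hxp : x.Prime := Nat.prime_of_mem_primeFactorsList (hl ▸ List.mem_singleton_self x)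
        have hx5040 : x ∣ 5040 := ⟨_, hq.trans (mul_comm _ _)⟩
        have : x ∣ 2 * 2 * 2 * 2 * 3 * 3 * 5 * 7 := by norm_num; exact hx5040
        simp only [hxp.dvd_mul] at this
        rcases this with ((((((h | h) | h) | h) | h) | h) | h) | h <;>
          have := Nat.le_of_dvd (by norm_num) h <;> omega
      · simp
    omega
  have := affine_numeric hp hd2 hsmall h23 (by omega)
  omega

end CfsgLib.CompLen
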