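import Mathlib.GroupTheory.QuotientGroup.Basic
import Mathlib.GroupTheory.Index
import Mathlib.Algebra.Group.Subgroup.Finite
import Mathlib.GroupTheory.Subgroup.Simple
import Mathlib.Data.Nat.Factors

/-!
Composition length of finite groups, as the longest descending subnormal series.
-/

set_option autoImplicit false

namespace CfsgLib.CompLen

universe u v

/-- `Bnd b G`: every strictly descending normal series from `G` has at most `b` steps. -/
def Bnd : ℕ → ∀ (G : Type u) [Group G], Prop
  | 0 => fun G _ => Subsingleton G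
  | b + 1 => fun G _ => ∀ N : Subgroup G, N.Normal → N ≠ ⊤ → Bnd b N

theorem bnd_succ : ∀ (b : ℕ) (G : Type u) [Group G], Bnd b G → Bnd (b + 1) G
  | 0, G, _, h => fun N _ hN => by
    haveI : Subsingleton G := h
    exact absurd (Subsingleton.elim _ _) hN
  | b + 1, G, _, h => fun N hn hN => bnd_succ b N (h N hn hN)

theorem bnd_mono {G : Type u} [Group G] {a b : ℕ} (hab : a ≤ b) (h : Bnd a G) : Bnd b G := by
  induction hab with
  | refl => exact h
  | step _ ih => exact bnd_succ _ G ih

theorem bnd_equiv : ∀ (b : ℕ) {G G' : Type u} [Group G] [Group G'] (_ : G ≃* G'), Bnd b G → Bnd b G'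
  | 0, G, G', _, _, e, h => by
    haveI : Subsingleton G := h
    exact e.symm.toEquiv.subsingleton
  | b + 1, G, G', _, _, e, h => fun N hn hN => by
    haveI : (N.comap e.toMonoidHom).Normal := hn.comap _
    have h1 : N.comap e.toMonoidHom ≠ ⊤ := fun h' => hN (by
      rw [← Subgroup.map_comap_eq_self_of_surjective (f := e.toMonoidHom) e.surjective N, h',
        Subgroup.map_top_of_surjective e.toMonoidHom e.surjective])
    refine bnd_equiv b ?_ (h _ inferInstance h1)
    exact ((Subgroup.equivMapOfInjective _ e.toMonoidHom e.injective).trans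
      (MulEquiv.subgroupCongr
        (Subgroup.map_comap_eq_self_of_surjective (f := e.toMonoidHom) e.surjective N)))

theorem exists_bnd : ∀ (n : ℕ) (G : Type u) [Group G] [Finite G], Nat.card G ≤ n → Bnd n G
  | 0, G, _, _, h => absurd h (Nat.not_le.2 Nat.card_pos)
  | n + 1, G, _, _, h => fun N _ hN => exists_bnd n N (by
    have h1 : Nat.card N < Nat.card G :=
      lt_of_le_of_ne (Subgroup.card_le_card_group N) fun h' => hN (Subgroup.eq_top_of_card_eq N h')
    omega)

theorem bnd_normal {G : Type u} [Group G] {b : ℕ} (h : Bnd b G) (N : Subgroup G) [hn : N.Normal] :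
    Bnd b N := by
  by_cases hN : N = ⊤
  · subst hN
    exact bnd_equiv b Subgroup.topEquiv.symm h
  · rcases b with _ | b
    · haveI : Subsingleton G := h
      exact absurd (Subsingleton.elim _ _) hN
    · exact bnd_succ b N (h N hn hN)

open scoped Classical in
/-- The composition length. -/
noncomputable def cl (G : Type u) [Group G] : ℕ :=
  if h : ∃ b, Bnd b G then Nat.find h else 0

section
variable {G : Type u} [Group G] [Finite G]

theorem bnd_cl : Bnd (cl G) G := by
  classical
  have h : ∃ b, Bnd b G := ⟨_, exists_bnd _ G le_rfl⟩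
  rw [cl, dif_pos h]
  exact Nat.find_spec h

theorem cl_le {b : ℕ} (h : Bnd b G) : cl G ≤ b := by
  classical
  rw [cl, dif_pos ⟨b, h⟩]
  exact Nat.find_min' _ h

theorem cl_congr {G' : Type u} [Group G'] (e : G ≃* G') : cl G = cl G' := by
  haveI : Finite G' := Finite.of_equiv _ e.toEquiv
  exact le_antisymm (cl_le (bnd_equiv _ e.symm bnd_cl)) (cl_le (bnd_equiv _ e bnd_cl))

theorem cl_eq_zero [Subsingleton G] : cl G = 0 :=
  Nat.le_zero.1 (cl_le (show Bnd 0 G from ‹Subsingleton G›))

theorem cl_normal_le (N : Subgroup G) [N.Normal] : cl N ≤ cl G :=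
  cl_le (bnd_normal bnd_cl N)

theorem cl_proper_lt (N : Subgroup G) [hn : N.Normal] (hN : N ≠ ⊤) : cl N < cl G := by
  have h := bnd_cl (G := G)
  rcases hc : cl G with _ | b
  · rw [hc] at h
    haveI : Subsingleton G := h
    exact absurd (Subsingleton.elim _ _) hN
  · rw [hc] at h
    exact Nat.lt_succ_of_le (cl_le (h N hn hN))

theorem cl_le_of_forall {b : ℕ} (h : ∀ N : Subgroup G, N.Normal → N ≠ ⊤ → cl N ≤ b) :
    cl G ≤ b + 1 :=
  cl_le fun N hn hN => bnd_mono (h N hn hN) bnd_cl

theorem exists_cl_pred (hG : cl G ≠ 0) :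
    ∃ N : Subgroup G, N.Normal ∧ N ≠ ⊤ ∧ cl N + 1 = cl G := by
  by_contra h
  push Not at h
  rcases hc : cl G with _ | _ | b
  · exact hG hc
  · haveI : Nontrivial G := not_subsingleton_iff_nontrivial.1 fun hs => by
      haveI := hs; rw [cl_eq_zero] at hc; omega
    have h1 := h ⊥ inferInstance bot_ne_top
    rw [cl_eq_zero, hc] at h1
    omega
  · have h1 : cl G ≤ b + 1 := cl_le_of_forall fun N hn hN => by
      have h2 := h N hn hN
      have h3 := cl_proper_lt N hN
      omega
    omega

end

/-- The composition length is subadditive. -/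
theorem cl_le_add : ∀ (n : ℕ) (G : Type u) [Group G] [Finite G], Nat.card G ≤ n →
    ∀ (N : Subgroup G) [N.Normal], cl G ≤ cl N + cl (G ⧸ N)
  | 0, G, _, _, h, _, _ => absurd h (Nat.not_le.2 Nat.card_pos)
  | n + 1, G, _, _, h, N, _ => by
    by_cases hG : cl G = 0
    · omega
    obtain ⟨M, hMn, hM, hMc⟩ := exists_cl_pred hG
    have hcard : Nat.card M ≤ n := by
      have h1 : Nat.card M < Nat.card G :=
        lt_of_le_of_ne (Subgroup.card_le_card_group M) fun h' => hM (Subgroup.eq_top_of_card_eq M h')
      omega
    have ih := cl_le_add n M hcard (N.subgroupOf M)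
    -- the two pieces of `M`
    have hpiece : cl (M ⧸ N.subgroupOf M) = cl (M.map (QuotientGroup.mk' N)) := by
      refine cl_congr ?_
      have hker : ((QuotientGroup.mk' N).subgroupMap M).ker = N.subgroupOf M := by
        ext x
        rw [MonoidHom.mem_ker, Subgroup.mem_subgroupOf, ← QuotientGroup.eq_one_iff (N := N),
          Subtype.ext_iff]
        rfl
      exact (QuotientGroup.quotientMulEquivOfEq hker.symm).trans
        (QuotientGroup.quotientKerEquivOfSurjective _
          (MonoidHom.subgroupMap_surjective _ _))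
    haveI hmap : (M.map (QuotientGroup.mk' N)).Normal :=
      hMn.map _ (QuotientGroup.mk'_surjective N)
    by_cases hNM : N ≤ M
    · have e1 : cl (N.subgroupOf M) = cl N := cl_congr (Subgroup.subgroupOfEquivOfLe hNM)
      have h2 := cl_proper_lt (M.map (QuotientGroup.mk' N)) fun h' => hM (by
        have := congrArg (Subgroup.comap (QuotientGroup.mk' N)) h'
        rwa [Subgroup.comap_map_eq, QuotientGroup.ker_mk', sup_eq_left.2 hNM,
          Subgroup.comap_top] at this)
      omega
    · have e1 : cl (N.subgroupOf M) = cl (M.subgroupOf N) := by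
        refine cl_congr ?_
        exact
          { toFun := fun x => ⟨⟨(x : M), x.2⟩, (x : M).2⟩
            invFun := fun x => ⟨⟨(x : N), x.2⟩, (x : N).2⟩
            left_inv := fun x => rfl
            right_inv := fun x => rfl
            map_mul' := fun x y => rfl }
      have h2 := cl_proper_lt (M.subgroupOf N) fun h' => hNM (Subgroup.subgroupOf_eq_top.1 h')
      have h3 := cl_normal_le (M.map (QuotientGroup.mk' N))
      omega

/-- The composition length is superadditive. -/
theorem add_le_cl : ∀ (n : ℕ) (G : Type u) [Group G] [Finite G], Nat.card G ≤ n →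
    ∀ (N : Subgroup G) [N.Normal], cl N + cl (G ⧸ N) ≤ cl G
  | 0, G, _, _, h, _, _ => absurd h (Nat.not_le.2 Nat.card_pos)
  | n + 1, G, _, _, h, N, _ => by
    by_cases hQ : cl (G ⧸ N) = 0
    · have := cl_normal_le N
      omega
    obtain ⟨M', hMn, hM, hMc⟩ := exists_cl_pred hQ
    set M := M'.comap (QuotientGroup.mk' N) with hMdef
    haveI : M.Normal := hMn.comap _
    have hMtop : M ≠ ⊤ := fun h' => hM (by
      rw [← Subgroup.map_comap_eq_self_of_surjective (QuotientGroup.mk'_surjective N) M', ← hMdef,
        h', Subgroup.map_top_of_surjective _ (QuotientGroup.mk'_surjective N)])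
    have hNM : N ≤ M := QuotientGroup.le_comap_mk' N M'
    have hcard : Nat.card M ≤ n := by
      have h1 : Nat.card M < Nat.card G :=
        lt_of_le_of_ne (Subgroup.card_le_card_group M) fun h' => hMtop (Subgroup.eq_top_of_card_eq M h')
      omega
    have ih := add_le_cl n M hcard (N.subgroupOf M)
    have e1 : cl (N.subgroupOf M) = cl N := cl_congr (Subgroup.subgroupOfEquivOfLe hNM)
    have e2 : cl (M ⧸ N.subgroupOf M) = cl M' := by
      refine cl_congr ?_
      let f : M →* M' := ((QuotientGroup.mk' N).comp M.subtype).codRestrict M' fun x => x.2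
      have hf : Function.Surjective f := by
        rintro ⟨q, hq⟩
        obtain ⟨g, rfl⟩ := QuotientGroup.mk'_surjective N q
        exact ⟨⟨g, hq⟩, rfl⟩
      have hker : f.ker = N.subgroupOf M := by
        ext x
        rw [MonoidHom.mem_ker, Subgroup.mem_subgroupOf, ← QuotientGroup.eq_one_iff (N := N),
          Subtype.ext_iff]
        rfl
      exact (QuotientGroup.quotientMulEquivOfEq hker.symm).trans
        (QuotientGroup.quotientKerEquivOfSurjective _ hf)
    have h2 := cl_proper_lt M hMtop
    omega

variable {G : Type u} [Group G] [Finite G]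

theorem cl_le_ker_range {H : Type u} [Group H] (f : G →* H) : cl G ≤ cl f.ker + cl f.range := by
  have h := cl_le_add _ G le_rfl f.ker
  rwa [cl_congr (QuotientGroup.quotientKerEquivRange f)] at h

theorem cl_surjective_le {H : Type u} [Group H] (f : G →* H) (hf : Function.Surjective f) :
    cl f.ker + cl H ≤ cl G := by
  have h := add_le_cl _ G le_rfl f.ker
  rwa [cl_congr (QuotientGroup.quotientKerEquivOfSurjective f hf)] at h

theorem one_le_cl [Nontrivial G] : 1 ≤ cl G := by
  have := cl_proper_lt (⊥ : Subgroup G) bot_ne_top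
  omega

theorem cl_simple [IsSimpleGroup G] : cl G ≤ 1 :=
  cl_le_of_forall (b := 0) fun N hn hN => by
    rw [(hn.eq_bot_or_eq_top).resolve_right hN, cl_eq_zero]

theorem cl_prod_le {H : Type u} [Group H] [Finite H] : cl (G × H) ≤ cl G + cl H := by
  have h := cl_le_ker_range (MonoidHom.snd G H)
  have e1 : cl (MonoidHom.snd G H).ker = cl G := cl_congr
    { toFun := fun x => x.1.1
      invFun := fun g => ⟨(g, 1), rfl⟩
      left_inv := fun x => Subtype.ext (Prod.ext rfl x.2.symm)
      right_inv := fun g => rfl
      map_mul' := fun x y => rfl }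
  have e2 : cl (MonoidHom.snd G H).range = cl H := cl_congr
    ((MulEquiv.subgroupCongr (MonoidHom.range_eq_top.2 (fun h => ⟨(1, h), rfl⟩))).trans
      Subgroup.topEquiv)
  omega

/-- A chain gives a lower bound on the composition length. -/
theorem le_cl_of_chain : ∀ (l : ℕ) {G : Type u} [Group G] [Finite G]
    (H : Fin (l + 1) → Subgroup G), H (Fin.last l) = ⊤ →
    (∀ i : Fin l, H i.castSucc < H i.succ ∧ ((H i.castSucc).subgroupOf (H i.succ)).Normal) →
    l ≤ cl G
  | 0, G, _, _, _, _, _ => Nat.zero_le _
  | l + 1, G, _, _, H, htop, hchain => by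
    set N := H (Fin.last l).castSucc with hN
    obtain ⟨hlt, hnor⟩ := hchain (Fin.last l)
    rw [Fin.succ_last, htop] at hlt hnor
    have hle : ∀ i : Fin (l + 1), H i.castSucc ≤ N := by
      intro i
      induction i using Fin.reverseInduction with
      | last => exact le_rfl
      | cast i ih =>
        refine le_trans ?_ ih
        rw [← Fin.succ_castSucc]
        exact (hchain i.castSucc).1.le
    haveI : N.Normal := ⟨fun n hn g => by
      have h := hnor.conj_mem ⟨n, Subgroup.mem_top n⟩ hn ⟨g, Subgroup.mem_top g⟩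
      exact h⟩
    have ih := le_cl_of_chain l (fun i : Fin (l + 1) => (H i.castSucc).subgroupOf N)
      (Subgroup.subgroupOf_self _) (fun i => by
        obtain ⟨h1, h2⟩ := hchain i.castSucc
        rw [Fin.succ_castSucc] at h1 h2
        refine ⟨lt_of_le_of_ne (fun x hx => h1.le hx) fun he => h1.ne ?_, ⟨fun x hx g => ?_⟩⟩
        · have h3 := congrArg (Subgroup.map N.subtype) he
          rwa [Subgroup.subgroupOf_map_subtype, Subgroup.subgroupOf_map_subtype,
            inf_eq_left.2 (hle _), inf_eq_left.2 (hle _)] at h3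
        · exact h2.conj_mem ⟨((x : N) : G), (x : (H i.succ.castSucc).subgroupOf N).2⟩ hx
            ⟨((g : N) : G), g.2⟩)
    have h3 := cl_proper_lt N hlt.ne
    omega

end CfsgLib.CompLen
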