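import Cfsg.Agent.Lib.CompLen.Basic
import Cfsg.Agent.Lib.AltHall.AbelianBound
import Mathlib.GroupTheory.OrderOfElement
import Mathlib.GroupTheory.Subgroup.Simple

/-!
Direct powers of a non-abelian simple group acting on a finite set.
-/

set_option autoImplicit false

namespace CfsgLib.CompLen

open Equiv

theorem maxProd_cube_le : ∀ n, CfsgLib.AltHall.maxProd n ^ 3 ≤ 3 ^ n := by
  intro n
  induction n using Nat.strong_induction_on with
  | _ n ih =>
  rcases Nat.lt_or_ge n 5 with h | h
  · interval_cases n <;> simp +decide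
  · obtain ⟨r, rfl⟩ : ∃ r, n = r + 5 := ⟨n - 5, by omega⟩
    rw [CfsgLib.AltHall.maxProd_succ_five, mul_pow, show r + 5 = (r + 2) + 3 by omega, pow_add 3,
      mul_comm (3 ^ (r + 2))]
    exact Nat.mul_le_mul_left _ (ih (r + 2) (by omega))

variable {S : Type} [Group S] [IsSimpleGroup S]

theorem eq_one_of_comm (hS : ∃ a b : S, a * b ≠ b * a) {v : S} (hv : ∀ s, v * s = s * v) : v = 1 := by
  by_contra hne
  have hcen : v ∈ Subgroup.center S := Subgroup.mem_center_iff.2 fun s => (hv s).symm
  have htop : Subgroup.center S = ⊤ :=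
    (inferInstance : (Subgroup.center S).Normal).eq_bot_or_eq_top.resolve_left
      fun h => hne (Subgroup.mem_bot.1 (h ▸ hcen))
  obtain ⟨a, b, hab⟩ := hS
  exact hab (Subgroup.mem_center_iff.1 (htop ▸ Subgroup.mem_top b) a)

theorem exists_sq_ne_one (hS : ∃ a b : S, a * b ≠ b * a) : ∃ y : S, y * y ≠ 1 := by
  by_contra h
  push Not at h
  obtain ⟨a, b, hab⟩ := hS
  apply hab
  have e : ∀ x : S, x⁻¹ = x := fun x => inv_eq_of_mul_eq_one_right (h x)
  calc a * b = (a * b)⁻¹ := (e _).symm
    _ = b * a := by rw [mul_inv_rev, e, e]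

/-- Active factors need three points each. -/
theorem three_mul_card_le [Finite S] (hS : ∃ a b : S, a * b ≠ b * a) {ι : Type} [Finite ι]
    [DecidableEq ι] {β : Type} [Finite β] (f : (ι → S) →* Perm β) (J : Finset ι)
    (hJ : ∀ i ∈ J, ∃ s, f (Pi.mulSingle i s) ≠ 1) : 3 * J.card ≤ Nat.card β := by
  classical
  obtain ⟨y, hy⟩ := exists_sq_ne_one hS
  set C := Subgroup.zpowers y with hC
  let ext' : (J → C) →* (ι → S) :=
    { toFun := fun w i => if h : i ∈ J then (w ⟨i, h⟩ : S) else 1
      map_one' := by funext i; by_cases h : i ∈ J <;> simp [h]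
      map_mul' := fun w w' => by funext i; by_cases h : i ∈ J <;> simp [h] }
  set ψ := f.comp ext' with hψ
  have hinj : Function.Injective ψ := by
    rw [injective_iff_map_eq_one]
    intro w hw
    funext ⟨i, hi⟩
    refine Subtype.ext (eq_one_of_comm hS fun s => ?_)
    set g := ext' w with hg
    have hgi : g i = (w ⟨i, hi⟩ : S) := dif_pos hi
    have hfg : f g = 1 := hw
    have hcomm : f (Pi.mulSingle i (g i * s * (g i)⁻¹ * s⁻¹)) = 1 := by
      have e : (Pi.mulSingle i (g i * s * (g i)⁻¹ * s⁻¹) : ι → S) =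
          g * Pi.mulSingle i s * g⁻¹ * (Pi.mulSingle i s)⁻¹ := by
        funext l
        rcases eq_or_ne l i with rfl | hl
        · simp
        · simp [Pi.mulSingle_eq_of_ne hl]
      rw [e, map_mul, map_mul, map_mul, map_inv, map_inv, hfg, one_mul, inv_one, mul_one,
        mul_inv_cancel]
    have hbot : (f.comp (MonoidHom.mulSingle (fun _ => S) i)).ker = ⊥ := by
      refine ((MonoidHom.normal_ker _).eq_bot_or_eq_top).resolve_right fun htop => ?_
      obtain ⟨t, ht⟩ := hJ i hi
      exact ht (MonoidHom.mem_ker.1 (htop ▸ Subgroup.mem_top t :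
        t ∈ (f.comp (MonoidHom.mulSingle (fun _ => S) i)).ker))
    have hmem : g i * s * (g i)⁻¹ * s⁻¹ ∈ (f.comp (MonoidHom.mulSingle (fun _ => S) i)).ker := hcomm
    rw [hbot, Subgroup.mem_bot, mul_inv_eq_one, mul_inv_eq_iff_eq_mul, hgi] at hmem
    exact hmem
  have hcomm : IsMulCommutative ψ.range := ⟨⟨fun u v => by
    obtain ⟨_, w, rfl⟩ := u
    obtain ⟨_, w', rfl⟩ := v
    apply Subtype.ext
    show ψ w * ψ w' = ψ w' * ψ w
    rw [← map_mul, ← map_mul]
    congr 1
    funext i
    exact Subtype.ext (congrArg Subtype.val ((IsCyclic.commGroup (α := C)).mul_comm (w i) (w' i)))⟩⟩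
  have h1 := CfsgLib.AltHall.card_abelian_le (Nat.card β) β ψ.range rfl hcomm
  rw [← Nat.card_congr (MonoidHom.ofInjective hinj).toEquiv, Nat.card_fun,
    Nat.card_eq_fintype_card (α := J), Fintype.card_coe] at h1
  have h3 : 3 ≤ Nat.card C := by
    rw [hC, Nat.card_zpowers]
    by_contra hlt
    have h := pow_orderOf_eq_one y
    have hpos := orderOf_pos y
    rcases (show orderOf y = 1 ∨ orderOf y = 2 by omega) with h' | h'
    · rw [h', pow_one] at h; rw [h] at hy; exact hy (mul_one 1)
    · rw [h', pow_two] at h; exact hy h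
  have h4 : 3 ^ (3 * J.card) ≤ 3 ^ Nat.card β := by
    calc 3 ^ (3 * J.card) = (3 ^ J.card) ^ 3 := by rw [← pow_mul, mul_comm]
      _ ≤ (CfsgLib.AltHall.maxProd (Nat.card β)) ^ 3 :=
        Nat.pow_le_pow_left ((Nat.pow_le_pow_left h3 _).trans h1) _
      _ ≤ 3 ^ Nat.card β := maxProd_cube_le _
  exact (Nat.pow_le_pow_iff_right (by norm_num)).1 h4

omit [IsSimpleGroup S] in
/-- The composition length of a finite power. -/
theorem cl_pi_le [Finite S] : ∀ k : ℕ, cl (Fin k → S) ≤ k * cl S
  | 0 => by rw [cl_eq_zero]; exact Nat.zero_le _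
  | k + 1 => by
    let e : (Fin (k + 1) → S) ≃* S × (Fin k → S) :=
      { toFun := fun w => (w 0, fun i => w i.succ)
        invFun := fun q => Fin.cons q.1 q.2
        left_inv := fun w => Fin.cons_self_tail w
        right_inv := fun q => by simp
        map_mul' := fun w w' => rfl }
    rw [cl_congr e]
    have h := cl_prod_le (G := S) (H := Fin k → S)
    have := cl_pi_le k
    rw [Nat.succ_mul]
    omega

end CfsgLib.CompLen
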