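import Cfsg.Agent.Lib.CompLen.Perm
import Cfsg.Agent.Lib.CompLen.Factors
import Cfsg.Agent.Lib.CharSimple.Basic
import Cfsg.Agent.Lib.Perm.Basic

/-!
Composition length of primitive groups with a non-abelian minimal normal subgroup.
-/

set_option autoImplicit false

namespace CfsgLib.CompLen

open MulAction Equiv

/-- A family of commuting conjugate simple subgroups generating a transitive normal subgroup. -/
structure Frame {α : Type} (G : Subgroup (Perm α)) (N : Subgroup G) (S : Type) [Group S] (k : ℕ) where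
  /-- the decomposition -/
  e : N ≃* (Fin k → S)

variable {α : Type} {G : Subgroup (Perm α)} {N : Subgroup G} {S : Type} [Group S] {k : ℕ}

/-- The factor embeddings. -/
def Frame.τ (D : Frame G N S k) (i : Fin k) : S →* G :=
  (N.subtype.comp D.e.symm.toMonoidHom).comp (MonoidHom.mulSingle (fun _ => S) i)

/-- The coordinates of an element of `N`. -/
def Frame.ξ (D : Frame G N S k) (g : G) (hg : g ∈ N) : Fin k → S := D.e ⟨g, hg⟩

theorem Frame.τ_mem (D : Frame G N S k) (i : Fin k) (s : S) : D.τ i s ∈ N :=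
  (D.e.symm (Pi.mulSingle i s)).2

theorem Frame.τ_injective (D : Frame G N S k) (i : Fin k) : Function.Injective (D.τ i) := by
  intro s t h
  have h1 : D.e.symm (Pi.mulSingle i s) = D.e.symm (Pi.mulSingle i t) := Subtype.ext h
  exact Pi.mulSingle_injective i (D.e.symm.injective h1)

theorem Frame.conj_τ (D : Frame G N S k) (g : G) (hg : g ∈ N) (i : Fin k) (s : S) :
    g * D.τ i s * g⁻¹ = D.τ i (D.ξ g hg i * s * (D.ξ g hg i)⁻¹) := by
  have h : (⟨g, hg⟩ : N) * D.e.symm (Pi.mulSingle i s) * (⟨g, hg⟩ : N)⁻¹ =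
      D.e.symm (Pi.mulSingle i (D.e ⟨g, hg⟩ i * s * (D.e ⟨g, hg⟩ i)⁻¹)) := by
    apply D.e.injective
    rw [map_mul, map_mul, map_inv, D.e.apply_symm_apply, D.e.apply_symm_apply]
    funext l
    rcases eq_or_ne l i with rfl | hl
    · simp
    · simp [Pi.mulSingle_eq_of_ne hl]
  exact congrArg Subtype.val h

theorem Frame.ξ_τ (D : Frame G N S k) (i : Fin k) (s : S) :
    D.ξ (D.τ i s) (D.τ_mem i s) = Pi.mulSingle i s := D.e.apply_symm_apply _

theorem Frame.commute (D : Frame G N S k) {i j : Fin k} (h : i ≠ j) (s t : S) :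
    D.τ i s * D.τ j t = D.τ j t * D.τ i s := by
  have h1 := D.conj_τ (D.τ i s) (D.τ_mem i s) j t
  rw [D.ξ_τ, Pi.mulSingle_eq_of_ne h.symm, one_mul, inv_one, mul_one, mul_inv_eq_iff_eq_mul] at h1
  exact h1

theorem Frame.mem_of_all (D : Frame G N S k) (X : Subgroup G) (h : ∀ i s, D.τ i s ∈ X) : N ≤ X := by
  classical
  intro g hg
  let X' : Subgroup (Fin k → S) := (X.comap N.subtype).comap D.e.symm.toMonoidHom
  have hmem : D.e ⟨g, hg⟩ ∈ X' := by
    rw [← Finset.noncommProd_mulSingle (D.e ⟨g, hg⟩)]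
    exact Subgroup.noncommProd_mem _ _ fun j _ => h j _
  have h2 : (D.e.symm (D.e ⟨g, hg⟩) : G) ∈ X := hmem
  rwa [D.e.symm_apply_apply] at h2

theorem bound_nonabelian {n : ℕ} (ih : BoundBelow n) [Finite α] (hn : Nat.card α = n) (h2 : 2 ≤ n)
    [IsPreprimitive G α] [hNn : N.Normal] (hN : N ≠ ⊥)
    (hmin : ∀ L : Subgroup G, L.Normal → L ≤ N → L = ⊥ ∨ L = N)
    [Finite S] [IsSimpleGroup S] (hS : ∃ a b : S, a * b ≠ b * a) (D : Frame G N S k) :
    3 * cl G + 4 ≤ 4 * n := by
  classical
  haveI : FaithfulSMul G α := ⟨fun h => Subtype.ext (Equiv.ext h)⟩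
  haveI : IsPretransitive N α := CfsgLib.Perm.isPretransitive_of_normal N hN
  haveI : Nonempty α := (Nat.card_pos_iff.1 (by omega)).1
  haveI : Nontrivial S := by
    obtain ⟨a, b, hab⟩ := hS
    exact ⟨⟨a * b, b * a, hab⟩⟩
  obtain ⟨a⟩ : Nonempty α := inferInstance
  have hk : 1 ≤ k := by
    by_contra h
    obtain rfl : k = 0 := by omega
    haveI : Subsingleton N := D.e.toEquiv.subsingleton
    exact hN (Subgroup.eq_bot_of_subsingleton N)
  have hfix1 : ∀ g : G, (∀ x : α, g • x = x) → g = 1 := fun g h => Subtype.ext (Equiv.ext h)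
  have hclN : cl N ≤ k := by
    rw [cl_congr D.e]
    exact (cl_pi_le k).trans (by simpa using Nat.mul_le_mul_left k (cl_simple (G := S)))
  set φ := (QuotientGroup.mk' N).comp (stabilizer G a).subtype with hφ
  have hsurj : Function.Surjective φ := by
    intro q
    obtain ⟨g, rfl⟩ := QuotientGroup.mk'_surjective N q
    obtain ⟨⟨u, hu⟩, hug⟩ := MulAction.exists_smul_eq N a (g • a)
    refine ⟨⟨u⁻¹ * g, ?_⟩, ?_⟩
    · rw [mem_stabilizer_iff, mul_smul, ← hug]
      exact inv_smul_smul u a
    · show QuotientGroup.mk' N (u⁻¹ * g) = QuotientGroup.mk' N g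
      rw [map_mul, map_inv, QuotientGroup.mk'_apply, (QuotientGroup.eq_one_iff u).2 hu, inv_one,
        one_mul]
  have hQ := cl_surjective_le φ hsurj
  have hG := cl_le_add _ G le_rfl N
  have hA := bound_stabilizer ih G hn h2 a
  -- every factor moves a point
  have hmove : ∀ i, ∃ (s : S) (x : α), D.τ i s • x ≠ x := by
    intro i
    obtain ⟨s, hs⟩ := exists_ne (1 : S)
    by_contra h
    push Not at h
    exact hs (D.τ_injective i ((hfix1 _ (h s)).trans (map_one _).symm))
  have h3k : 3 * k ≤ n := by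
    have h := three_mul_card_le hS
      ((MulAction.toPermHom N α).comp D.e.symm.toMonoidHom) (Finset.univ : Finset (Fin k))
      fun i _ => by
        obtain ⟨s, x, hx⟩ := hmove i
        exact ⟨s, fun h => hx (congrArg (fun σ : Perm α => σ x) h)⟩
    rwa [Finset.card_univ, Fintype.card_fin, hn] at h
  rcases Nat.lt_or_ge k 2 with hk2 | hk2
  · omega
  -- `G` permutes the factors
  have hmap : ∀ (g : G) (i : Fin k), ∃ j, ∀ s, ∃ t, g * D.τ i s * g⁻¹ = D.τ j t := by
    intro g i
    set X := (D.τ i).range.map (MulAut.conj g).toMonoidHom with hX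
    have hXN : X ≤ N := by
      rintro _ ⟨_, ⟨s, rfl⟩, rfl⟩
      exact hNn.conj_mem _ (D.τ_mem i s) g
    have hXnorm : ∀ u ∈ N, ∀ x ∈ X, u * x * u⁻¹ ∈ X := by
      rintro u hu _ ⟨_, ⟨s, rfl⟩, rfl⟩
      have hu' : g⁻¹ * u * g ∈ N := by simpa using hNn.conj_mem u hu g⁻¹
      refine ⟨_, ⟨_, (D.conj_τ _ hu' i s).symm⟩, ?_⟩
      simp [mul_assoc]
    obtain ⟨x, hx, hx1⟩ : ∃ x ∈ X, x ≠ 1 := by
      obtain ⟨s, hs⟩ := exists_ne (1 : S)
      refine ⟨_, ⟨_, ⟨s, rfl⟩, rfl⟩, fun h => hs (D.τ_injective i ?_)⟩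
      rw [map_one]
      exact (MulAut.conj g).injective (h.trans (map_one _).symm)
    obtain ⟨j, hj⟩ : ∃ j, D.ξ x (hXN hx) j ≠ 1 := by
      by_contra h
      push Not at h
      apply hx1
      have h1 : D.e ⟨x, hXN hx⟩ = 1 := funext h
      exact congrArg Subtype.val ((MulEquiv.map_eq_one_iff D.e).1 h1)
    set v := D.ξ x (hXN hx) j
    let Y : Subgroup S := X.comap (D.τ j)
    haveI hY : Y.Normal := ⟨fun t ht s => by
      show D.τ j (s * t * s⁻¹) ∈ X
      rw [map_mul, map_mul, map_inv]
      exact hXnorm _ (D.τ_mem j s) _ ht⟩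
    have hYtop : Y = ⊤ := by
      refine hY.eq_bot_or_eq_top.resolve_left fun hbot => hj (eq_one_of_comm hS fun s => ?_)
      have hmem : v * s * v⁻¹ * s⁻¹ ∈ Y := by
        show D.τ j (v * s * v⁻¹ * s⁻¹) ∈ X
        rw [map_mul, ← D.conj_τ x (hXN hx) j s, map_inv]
        have h := X.mul_mem hx (hXnorm _ (D.τ_mem j s) _ (X.inv_mem hx))
        simpa [mul_assoc] using h
      rw [hbot, Subgroup.mem_bot, mul_inv_eq_one, mul_inv_eq_iff_eq_mul] at hmem
      exact hmem
    have hle : (D.τ j).range ≤ X := by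
      rintro _ ⟨t, rfl⟩
      exact (hYtop ▸ Subgroup.mem_top t : t ∈ Y)
    have heq : (D.τ j).range = X := by
      refine Subgroup.eq_of_le_of_card_ge hle (le_of_eq ?_)
      rw [hX, Subgroup.card_map_of_injective (MulAut.conj g).injective,
        ← Nat.card_congr (MonoidHom.ofInjective (D.τ_injective i)).toEquiv,
        ← Nat.card_congr (MonoidHom.ofInjective (D.τ_injective j)).toEquiv]
    refine ⟨j, fun s => ?_⟩
    have hmem : g * D.τ i s * g⁻¹ ∈ X := ⟨_, ⟨s, rfl⟩, rfl⟩
    rw [← heq] at hmem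
    obtain ⟨t, ht⟩ := hmem
    exact ⟨t, ht.symm⟩
  choose π hπ using hmap
  have huniq : ∀ (g : G) (i j : Fin k), (∀ s, ∃ t, g * D.τ i s * g⁻¹ = D.τ j t) → π g i = j := by
    intro g i j h
    by_contra hne
    obtain ⟨s, hs⟩ := exists_ne (1 : S)
    obtain ⟨t, ht⟩ := h s
    obtain ⟨t', ht'⟩ := hπ g i s
    have e : D.τ (π g i) t' = D.τ j t := ht'.symm.trans ht
    have e2 : (Pi.mulSingle (π g i) t' : Fin k → S) = Pi.mulSingle j t :=
      D.e.symm.injective (Subtype.ext e)
    have e3 : t' = 1 := by simpa [Pi.mulSingle_eq_of_ne hne] using congrFun e2 (π g i)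
    rw [e3, map_one, mul_inv_eq_one, mul_eq_left] at ht'
    exact hs (D.τ_injective i (ht'.trans (map_one _).symm))
  have hπmul : ∀ g g' i, π (g * g') i = π g (π g' i) := by
    intro g g' i
    refine huniq _ _ _ fun s => ?_
    obtain ⟨t, ht⟩ := hπ g' i s
    obtain ⟨t', ht'⟩ := hπ g (π g' i) t
    refine ⟨t', ?_⟩
    rw [← ht', ← ht]
    group
  have hπ1 : ∀ i, π 1 i = i := fun i => huniq _ _ _ fun s => ⟨s, by group⟩
  have hπN : ∀ u ∈ N, ∀ i, π u i = i := fun u hu i => huniq _ _ _ fun s => ⟨_, D.conj_τ u hu i s⟩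
  let P : G →* Perm (Fin k) :=
    { toFun := fun g => ⟨π g, π g⁻¹, fun i => by rw [← hπmul, inv_mul_cancel, hπ1],
        fun i => by rw [← hπmul, mul_inv_cancel, hπ1]⟩
      map_one' := Equiv.ext hπ1
      map_mul' := fun g g' => Equiv.ext (hπmul g g') }
  have hPapply : ∀ g i, P g i = π g i := fun g i => rfl
  have hPtrans : ∀ i j, ∃ g, π g i = j := by
    intro i j
    by_contra h
    push Not at h
    set X : Subgroup G := ⨆ g : G, (D.τ (π g i)).range with hX
    have hXle : X ≤ Subgroup.centralizer (Set.range (D.τ j)) := by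
      refine iSup_le fun g => ?_
      rintro _ ⟨s, rfl⟩
      rw [Subgroup.mem_centralizer_iff]
      rintro _ ⟨t, rfl⟩
      exact D.commute (h g).symm t s
    -- conjugates of the factors in the orbit give a normal subgroup inside the centralizer
    haveI hXn : X.Normal := by
      refine ⟨fun x hx c => ?_⟩
      have : X ≤ X.comap (MulAut.conj c).toMonoidHom := by
        refine iSup_le fun g => ?_
        rintro _ ⟨s, rfl⟩
        obtain ⟨t, ht⟩ := hπ c (π g i) s
        rw [Subgroup.mem_comap]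
        show c * D.τ (π g i) s * c⁻¹ ∈ X
        rw [ht, ← hπmul]
        exact Subgroup.mem_iSup_of_mem (c * g) ⟨t, rfl⟩
      exact this hx
    have hXne : X ≠ ⊥ := by
      intro hbot
      obtain ⟨s, hs⟩ := exists_ne (1 : S)
      have hmem : D.τ (π 1 i) s ∈ X := Subgroup.mem_iSup_of_mem 1 ⟨s, rfl⟩
      rw [hbot, Subgroup.mem_bot] at hmem
      exact hs (D.τ_injective _ (hmem.trans (map_one _).symm))
    have hXN : X ≤ N := iSup_le fun g => by rintro _ ⟨s, rfl⟩; exact D.τ_mem _ s
    have hXeq : X = N := (hmin X hXn hXN).resolve_left hXne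
    obtain ⟨v, hv⟩ := exists_ne (1 : S)
    refine hv (eq_one_of_comm hS fun t => ?_)
    have h1 : D.τ j t * D.τ j v = D.τ j v * D.τ j t :=
      Subgroup.mem_centralizer_iff.1 (hXle (show D.τ j v ∈ X by rw [hXeq]; exact D.τ_mem j v)) _ ⟨t, rfl⟩
    rw [← map_mul, ← map_mul] at h1
    exact (D.τ_injective j h1).symm
  -- orbits of the factors all have the same size
  set m : Fin k → α → ℕ := fun i x => (Set.range fun s : S => D.τ i s • x).ncard with hmdef
  set i₀ : Fin k := ⟨0, by omega⟩
  have hmconj : ∀ g i x, m (π g i) (g • x) = m i x := by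
    intro g i x
    have himg : (Set.range fun s : S => D.τ (π g i) s • g • x) =
        (g • ·) '' (Set.range fun s : S => D.τ i s • x) := by
      apply Set.Subset.antisymm
      · rintro _ ⟨t, rfl⟩
        obtain ⟨s, hs⟩ := hπ g⁻¹ (π g i) t
        rw [show π g⁻¹ (π g i) = i by rw [← hπmul, inv_mul_cancel, hπ1]] at hs
        refine ⟨D.τ i s • x, ⟨s, rfl⟩, ?_⟩
        show g • D.τ i s • x = D.τ (π g i) t • g • x
        rw [← hs, inv_inv, ← mul_smul, ← mul_smul]
        congr 1
        group
      · rintro _ ⟨_, ⟨s, rfl⟩, rfl⟩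
        obtain ⟨t, ht⟩ := hπ g i s
        refine ⟨t, ?_⟩
        show D.τ (π g i) t • g • x = g • D.τ i s • x
        rw [← ht, ← mul_smul, ← mul_smul, inv_mul_cancel_right]
    show Set.ncard _ = Set.ncard _
    rw [himg, Set.ncard_image_of_injective _ (MulAction.injective g)]
  set M := m i₀ a with hMdef
  have hm : ∀ i x, m i x = M := by
    intro i x
    obtain ⟨g, hg⟩ := hPtrans i₀ i
    obtain ⟨u, hu⟩ := MulAction.exists_smul_eq N (g • a) x
    have h1 := hmconj ((u : G) * g) i₀ a
    rwa [hπmul, hg, hπN _ u.2, mul_smul, show (u : G) • g • a = x from hu] at h1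
  have hM2 : 2 ≤ M := by
    obtain ⟨s, x, hx⟩ := hmove i₀
    rw [← hm i₀ x]
    show 1 < Set.ncard _
    rw [Set.one_lt_ncard (Set.toFinite _)]
    exact ⟨_, ⟨s, rfl⟩, x, ⟨1, by simp⟩, hx⟩
  -- a factor acts faithfully on each of its orbits
  have hfaith : ∀ (i : Fin k) (x : α) (w : S),
      (∀ s, D.τ i w • D.τ i s • x = D.τ i s • x) → w = 1 := by
    intro i x w hw
    let Kx : Subgroup S :=
      { carrier := {w | ∀ s, D.τ i w • D.τ i s • x = D.τ i s • x}
        one_mem' := fun s => by rw [map_one, one_smul]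
        mul_mem' := fun {u v} hu hv s => by rw [map_mul, mul_smul, hv, hu]
        inv_mem' := fun {u} hu s => by rw [map_inv, inv_smul_eq_iff, hu] }
    haveI hK : Kx.Normal := ⟨fun u hu v s => by
      rw [map_mul, map_mul, map_inv, mul_smul, mul_smul,
        show (D.τ i v)⁻¹ • D.τ i s • x = D.τ i (v⁻¹ * s) • x by rw [map_mul, map_inv, mul_smul],
        hu, map_mul, mul_smul, map_inv, smul_inv_smul]⟩
    rcases hK.eq_bot_or_eq_top with h | h
    · exact Subgroup.mem_bot.1 (h ▸ (show w ∈ Kx from hw))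
    · exfalso
      have h1 : (Set.range fun s : S => D.τ i s • x) ⊆ {x} := by
        rintro _ ⟨s, rfl⟩
        have h2 := (show s ∈ Kx from h ▸ Subgroup.mem_top s) 1
        simpa using h2
      have h2 := Set.ncard_le_ncard h1
      rw [Set.ncard_singleton] at h2
      have := hm i x
      simp only [hmdef] at this
      omega
  -- an element of `N` fixing a whole orbit of a factor has trivial coordinate there
  have hfixer : ∀ (g : G) (hg : g ∈ N) (i : Fin k) (O : Set α), (∀ x ∈ O, g • x = x) →
      (∀ s, ∀ x ∈ O, D.τ i s • x ∈ O) → ∀ x ∈ O, D.ξ g hg i = 1 := by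
    intro g hg i O hgO hinv x hx
    refine eq_one_of_comm hS fun s => ?_
    set v := D.ξ g hg i
    have h : v * s * v⁻¹ * s⁻¹ = 1 := by
      refine hfaith i x _ fun t => ?_
      have hy := hinv t x hx
      have hgi : ∀ z ∈ O, g⁻¹ • z = z := fun z hz => inv_smul_eq_iff.2 (hgO z hz).symm
      rw [map_mul, ← D.conj_τ g hg i s, map_inv, mul_smul, mul_smul, mul_smul]
      have hz : (D.τ i s)⁻¹ • D.τ i t • x ∈ O := by rw [← map_inv]; exact hinv _ _ hy
      rw [hgi _ hz, smul_inv_smul, hgO _ hy]
    rw [mul_inv_eq_one, mul_inv_eq_iff_eq_mul] at h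
    exact h
  -- linked factors
  let β := Set.range fun x : α => Set.range fun s : S => D.τ i₀ s • x
  let bl : α → β := fun x => ⟨_, ⟨x, rfl⟩⟩
  have hblmem : ∀ x, x ∈ (bl x : Set α) := fun x => ⟨1, by simp⟩
  have hbleq : ∀ x y, y ∈ (bl x : Set α) → bl y = bl x := by
    rintro x _ ⟨s, rfl⟩
    apply Subtype.ext
    apply Set.Subset.antisymm
    · rintro _ ⟨t, rfl⟩
      exact ⟨t * s, by show D.τ i₀ (t * s) • x = _; rw [map_mul, mul_smul]⟩
    · rintro _ ⟨t, rfl⟩
      exact ⟨t * s⁻¹, by
        show D.τ i₀ (t * s⁻¹) • D.τ i₀ s • x = _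
        rw [map_mul, mul_smul, map_inv, inv_smul_smul]⟩
  have hcM : Nat.card β * M = n := by
    letI := Fintype.ofFinite α
    letI := Fintype.ofFinite β
    rw [← hn, Nat.card_eq_fintype_card, Nat.card_eq_fintype_card, ← Finset.card_univ (α := α),
      Finset.card_eq_sum_card_fiberwise (f := bl) (t := Finset.univ) (fun x _ => Finset.mem_univ _)]
    rw [Finset.sum_const_nat (m := M) (fun b _ => ?_), Finset.card_univ]
    obtain ⟨_, x, rfl⟩ := b
    rw [← hm i₀ x]
    show _ = Set.ncard (bl x : Set α)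
    rw [Set.ncard_eq_toFinset_card']
    congr 1
    ext y
    simp only [Finset.mem_filter, Finset.mem_univ, true_and, Set.mem_toFinset]
    exact ⟨fun h => (show bl y = bl x from h) ▸ hblmem y, hbleq x y⟩
  have hkc : M * k ≤ n ∨ (M = n ∧ k = 2) := by
    -- the action on the orbits of the first factor
    have hact : ∀ u ∈ N, ∀ x y, bl x = bl y → bl (u • x) = bl (u • y) := by
      intro u hu x y hxy
      have hy : y ∈ (bl x : Set α) := hxy ▸ hblmem y
      obtain ⟨s, rfl⟩ := hy
      refine (hbleq (u • x) _ ⟨D.ξ u hu i₀ * s * (D.ξ u hu i₀)⁻¹, ?_⟩).symm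
      show D.τ i₀ _ • u • x = u • D.τ i₀ s • x
      rw [← D.conj_τ u hu i₀ s, ← mul_smul, ← mul_smul, inv_mul_cancel_right]
    let sm : N → β → β := fun u b => bl ((u : G) • b.2.choose)
    have hsm : ∀ (u : N) x, sm u (bl x) = bl ((u : G) • x) := fun u x =>
      hact u u.2 _ _ (Subtype.ext ((bl x).2.choose_spec))
    letI : MulAction N β :=
      { smul := sm
        one_smul := fun b => by
          obtain ⟨_, x, rfl⟩ := b
          show sm 1 (bl x) = bl x
          rw [hsm, Subgroup.coe_one, one_smul]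
        mul_smul := fun u v b => by
          obtain ⟨_, x, rfl⟩ := b
          show sm (u * v) (bl x) = sm u (sm v (bl x))
          rw [hsm v, hsm u, hsm (u * v), Subgroup.coe_mul, mul_smul] }
    set f := (MulAction.toPermHom N β).comp D.e.symm.toMonoidHom with hf
    set J : Finset (Fin k) := Finset.univ.filter fun i => ∃ s x, bl (D.τ i s • x) ≠ bl x with hJ
    have h3J := three_mul_card_le hS f J (fun i hi => by
      obtain ⟨-, s, x, hsx⟩ := Finset.mem_filter.1 hi
      refine ⟨s, fun h => hsx ?_⟩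
      have h' := congrArg (fun σ : Perm β => σ (bl x)) h
      exact (hsm ⟨_, D.τ_mem i s⟩ x).symm.trans h')
    set L : Finset (Fin k) := Finset.univ.filter fun i => i ≠ i₀ ∧ ∀ s x, bl (D.τ i s • x) = bl x with hL
    have hL1 : L.card ≤ 1 := by
      refine Finset.card_le_one.2 fun i hi j hj => ?_
      by_contra hij
      obtain ⟨-, hi0, hilink⟩ := Finset.mem_filter.1 hi
      obtain ⟨-, hj0, hjlink⟩ := Finset.mem_filter.1 hj
      set O : Set α := Set.range fun s : S => D.τ i₀ s • a with hO
      have hinO : ∀ l, (l = i₀ ∨ ∀ s x, bl (D.τ l s • x) = bl x) → ∀ s, ∀ x ∈ O, D.τ l s • x ∈ O := by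
        rintro l (rfl | hl) s x hx
        · obtain ⟨t, rfl⟩ := hx
          exact ⟨s * t, by show D.τ i₀ (s * t) • a = _; rw [map_mul, mul_smul]⟩
        · have h1 : bl (D.τ l s • x) = bl a := (hl s x).trans (hbleq a x hx)
          have h2 := hblmem (D.τ l s • x)
          rw [h1] at h2
          exact h2
      have haO : a ∈ O := hblmem a
      have hOi : (Set.range fun s : S => D.τ i s • a) = O :=
        Set.eq_of_subset_of_ncard_le (by rintro _ ⟨s, rfl⟩; exact hinO i (Or.inr hilink) s a haO)
          (le_of_eq ((hm i₀ a).trans (hm i a).symm)) (Set.toFinite _)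
      -- the first factor is regular on `O`
      have hreg : ∀ w, D.τ i₀ w • a = a → w = 1 := by
        intro w hw
        refine hfaith i₀ a w fun s => ?_
        obtain ⟨t, ht⟩ : D.τ i₀ s • a ∈ Set.range fun r : S => D.τ i r • a := hOi ▸ ⟨s, rfl⟩
        rw [← show D.τ i t • a = D.τ i₀ s • a from ht, ← mul_smul, D.commute hi0.symm, mul_smul, hw]
      have hcardS : Nat.card S = M := by
        rw [← hm i₀ a]
        show _ = Set.ncard _
        rw [← Nat.card_range_of_injective (f := fun s : S => D.τ i₀ s • a), Nat.card_coe_set_eq]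
        intro s t hst
        have := hreg (t⁻¹ * s) (by
          rw [map_mul, map_inv, mul_smul, show D.τ i₀ s • a = D.τ i₀ t • a from hst, inv_smul_smul])
        exact (inv_mul_eq_one.1 this).symm
      let F : S × S → α := fun q => D.τ i q.1 • D.τ j q.2 • a
      have hFinj : Function.Injective F := by
        rintro ⟨s, t⟩ ⟨s', t'⟩ h
        set g := D.τ i (s'⁻¹ * s) * D.τ j (t'⁻¹ * t) with hg
        have hgN : g ∈ N := N.mul_mem (D.τ_mem _ _) (D.τ_mem _ _)
        have hga : g • a = a := by
          have h0 : D.τ i s • D.τ j t • a = D.τ i s' • D.τ j t' • a := h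
          rw [hg, map_mul, map_mul, map_inv, map_inv,
            show (D.τ i s')⁻¹ * D.τ i s * ((D.τ j t')⁻¹ * D.τ j t) =
              (D.τ i s')⁻¹ * (D.τ i s * (D.τ j t')⁻¹) * D.τ j t by group,
            ← map_inv (D.τ j), D.commute hij, map_inv, mul_smul, mul_smul, mul_smul, h0,
            ← mul_smul (D.τ j t')⁻¹, ← mul_smul (D.τ i s')⁻¹]
          rw [show (D.τ i s')⁻¹ * ((D.τ j t')⁻¹ * D.τ i s') = (D.τ j t')⁻¹ by
            rw [← map_inv (D.τ j), ← D.commute hij]; group]
          exact inv_smul_smul _ _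
        have hgO : ∀ x ∈ O, g • x = x := by
          rintro _ ⟨w, rfl⟩
          have hc : g * D.τ i₀ w = D.τ i₀ w * g := by
            rw [hg, mul_assoc, D.commute hj0, ← mul_assoc, D.commute hi0, mul_assoc]
          show g • D.τ i₀ w • a = D.τ i₀ w • a
          rw [← mul_smul, hc, mul_smul, hga]
        have hξ : ∀ l, D.ξ g hgN l =
            (Pi.mulSingle i (s'⁻¹ * s) : Fin k → S) l * (Pi.mulSingle j (t'⁻¹ * t) : Fin k → S) l := by
          intro l
          have e : (⟨g, hgN⟩ : N) = D.e.symm (Pi.mulSingle i (s'⁻¹ * s)) * D.e.symm (Pi.mulSingle j (t'⁻¹ * t)) :=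
            Subtype.ext rfl
          show D.e ⟨g, hgN⟩ l = _
          rw [e, map_mul, D.e.apply_symm_apply, D.e.apply_symm_apply]
          rfl
        have h1 := hfixer g hgN i O hgO (hinO i (Or.inr hilink)) a haO
        have h2 := hfixer g hgN j O hgO (hinO j (Or.inr hjlink)) a haO
        rw [hξ, Pi.mulSingle_eq_same, Pi.mulSingle_eq_of_ne hij, mul_one, inv_mul_eq_one] at h1
        rw [hξ, Pi.mulSingle_eq_same, Pi.mulSingle_eq_of_ne (Ne.symm hij), one_mul, inv_mul_eq_one] at h2
        rw [h1, h2]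
      have hFO : Set.range F ⊆ O := by
        rintro _ ⟨q, rfl⟩
        exact hinO i (Or.inr hilink) _ _ (hinO j (Or.inr hjlink) _ _ haO)
      have h4 := Set.ncard_le_ncard hFO (Set.toFinite _)
      rw [← Nat.card_coe_set_eq, Nat.card_range_of_injective hFinj, Nat.card_prod, hcardS] at h4
      have h5 : O.ncard = M := hm i₀ a
      rw [h5] at h4
      have h6 : M * 2 ≤ M * M := Nat.mul_le_mul_left _ hM2
      omega
    have hcover : k ≤ 1 + L.card + J.card := by
      have hsub : (Finset.univ : Finset (Fin k)) ⊆ {i₀} ∪ L ∪ J := by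
        intro i _
        by_cases h0 : i = i₀
        · simp [h0]
        by_cases hl : ∀ s x, bl (D.τ i s • x) = bl x
        · simp [hL, h0, hl]
        · push Not at hl
          simp [hJ, hl]
      have h := Finset.card_le_card hsub
      rw [Finset.card_univ, Fintype.card_fin] at h
      have h' := Finset.card_union_le ({i₀} ∪ L) J
      have h'' := Finset.card_union_le {i₀} L
      rw [Finset.card_singleton] at h''
      omega
    rcases Nat.lt_or_ge (Nat.card β) 2 with hc | hc
    · right
      have hc1 : Nat.card β = 1 := by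
        rcases Nat.eq_zero_or_pos (Nat.card β) with h0 | h0
        · rw [h0, zero_mul] at hcM; omega
        · omega
      rw [hc1, one_mul] at hcM
      exact ⟨hcM, by omega⟩
    · left
      rw [← hcM, mul_comm]
      exact Nat.mul_le_mul_right _ (by omega)
  rcases hkc with hkn | ⟨hMn, hk2'⟩
  · -- kernel on the factors
    have hPbound : 3 * cl P.range + 4 ≤ 4 * k := by
      have h := bound_action ih (K := P.range) (β := Fin k)
        (fun q hq => Subtype.ext (Equiv.ext hq)) (by rw [Nat.card_eq_fintype_card, Fintype.card_fin]; omega)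
      have h1 := one_le_orb P.range i₀
      rw [Nat.card_eq_fintype_card, Fintype.card_fin] at h
      omega
    have hKP := cl_le_ker_range P
    have hNP : N ≤ P.ker := fun u hu => MonoidHom.mem_ker.2 (Equiv.ext fun i => hπN u hu i)
    haveI : (N.subgroupOf P.ker).Normal := Subgroup.normal_subgroupOf
    have hP0 := cl_le_add _ P.ker le_rfl (N.subgroupOf P.ker)
    rw [cl_congr (Subgroup.subgroupOfEquivOfLe hNP)] at hP0
    set G₀ : Subgroup G := stabilizer G a ⊓ P.ker with hG₀
    let φ₀ : G₀ →* P.ker ⧸ N.subgroupOf P.ker :=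
      (QuotientGroup.mk' _).comp (Subgroup.inclusion (inf_le_right : G₀ ≤ P.ker))
    have hsurj₀ : Function.Surjective φ₀ := by
      intro q
      obtain ⟨⟨g, hg⟩, rfl⟩ := QuotientGroup.mk'_surjective _ q
      obtain ⟨⟨u, hu⟩, hug⟩ := MulAction.exists_smul_eq N a (g • a)
      refine ⟨⟨u⁻¹ * g, ?_, P.ker.mul_mem (P.ker.inv_mem (hNP hu)) hg⟩, ?_⟩
      · show u⁻¹ * g ∈ stabilizer G a
        rw [mem_stabilizer_iff, mul_smul, ← hug]
        exact inv_smul_smul u a
      · refine (QuotientGroup.eq_iff_div_mem).2 ?_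
        rw [Subgroup.mem_subgroupOf]
        show (u⁻¹ * g) / g ∈ N
        rw [mul_div_cancel_right]
        exact N.inv_mem hu
    have hφ₀ := cl_surjective_le φ₀ hsurj₀
    have horbinv : ∀ h ∈ G₀, ∀ (i : Fin k) (x : α),
        x ∈ (Set.range fun s : S => D.τ i s • a) → h • x ∈ (Set.range fun s : S => D.τ i s • a) := by
      rintro h ⟨hha, hhP⟩ i _ ⟨s, rfl⟩
      obtain ⟨t, ht⟩ := hπ h i s
      rw [show π h i = i from Equiv.ext_iff.1 (MonoidHom.mem_ker.1 hhP) i] at ht
      refine ⟨t, ?_⟩
      show D.τ i t • a = h • D.τ i s • a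
      conv_rhs => rw [← mul_smul]
      rw [← ht, mul_smul, inv_smul_eq_iff.2 (mem_stabilizer_iff.1 hha).symm]
    let Kj : ℕ → Subgroup G := fun j =>
      { carrier := {h | h ∈ G₀ ∧ ∀ i : Fin k, i.val < j → ∀ x ∈ (Set.range fun s : S => D.τ i s • a), h • x = x}
        one_mem' := ⟨one_mem _, fun i _ x _ => one_smul _ x⟩
        mul_mem' := fun {g h} hg hh => ⟨mul_mem hg.1 hh.1, fun i hi x hx => by
          rw [mul_smul, hh.2 i hi x hx, hg.2 i hi x hx]⟩
        inv_mem' := fun {g} hg => ⟨inv_mem hg.1, fun i hi x hx =>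
          inv_smul_eq_iff.2 (hg.2 i hi x hx).symm⟩ }
    have hKbound : ∀ l, ∀ j, l + j = k → 3 * cl (Kj j) ≤ l * (4 * (M - 2)) := by
      intro l
      induction l with
      | zero =>
        intro j hj
        have hjk : j = k := by omega
        rw [hjk]
        haveI : Subsingleton (Kj k) := ⟨fun p q => by
          have key : ∀ h ∈ Kj k, h = 1 := by
            intro h hh
            have hcommN : N ≤ Subgroup.centralizer {h} := by
              refine D.mem_of_all _ fun i s => ?_
              rw [Subgroup.mem_centralizer_singleton_iff]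
              obtain ⟨t, ht⟩ := hπ h i s
              rw [show π h i = i from Equiv.ext_iff.1 (MonoidHom.mem_ker.1 hh.1.2) i] at ht
              have hts : s⁻¹ * t = 1 := by
                refine hfaith i a _ fun w => ?_
                have hfix := hh.2 i i.2
                rw [map_mul, mul_smul, ← ht, map_inv, mul_smul, mul_smul,
                  inv_smul_eq_iff.2 (hfix _ ⟨w, rfl⟩).symm,
                  hfix _ ⟨s * w, by show D.τ i (s * w) • a = _; rw [map_mul, mul_smul]⟩, inv_smul_smul]
              rw [(inv_mul_eq_one.1 hts).symm, mul_inv_eq_iff_eq_mul] at ht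
              exact ht.symm
            refine hfix1 h fun x => ?_
            obtain ⟨⟨u, hu⟩, rfl⟩ := MulAction.exists_smul_eq N a x
            show h • u • a = u • a
            rw [← mul_smul, ← Subgroup.mem_centralizer_singleton_iff.1 (hcommN hu), mul_smul,
              mem_stabilizer_iff.1 hh.1.1]
          exact Subtype.ext ((key p p.2).trans (key q q.2).symm)⟩
        rw [cl_eq_zero]
        simp
      | succ l ihl =>
        intro j hj
        set i : Fin k := ⟨j, by omega⟩ with hidef
        set O : Set α := Set.range fun s : S => D.τ i s • a with hO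
        have haO : a ∈ O := ⟨1, by simp⟩
        let SO : SubMulAction (Kj j) α :=
          { carrier := O \ {a}
            smul_mem' := fun h x hx => ⟨horbinv h h.2.1 i x hx.1, fun he => hx.2 (by
              have he' : (h : G) • x = (h : G) • a := (show (h : G) • x = a from he).trans h.2.1.1.symm
              exact (smul_left_cancel_iff _).1 he')⟩ }
        have hSO : Nat.card SO + 1 = M := by
          rw [← hm i a]
          show Nat.card ↥(O \ {a}) + 1 = O.ncard
          rw [Nat.card_coe_set_eq]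
          exact Set.ncard_sdiff_singleton_add_one haO (Set.toFinite _)
        set ρ := MulAction.toPermHom (Kj j) SO with hρ
        have hMn' : M ≤ n := by
          rw [← hcM]
          refine Nat.le_mul_of_pos_left _ ?_
          haveI : Nonempty β := ⟨bl a⟩
          exact Nat.card_pos
        have h1 := bound_action ih (K := ρ.range) (β := SO)
          (fun q hq => Subtype.ext (Equiv.ext hq)) (by omega)
        haveI : Nonempty SO := (Nat.card_pos_iff.1 (by omega)).1
        have h2 := one_le_orb ρ.range (Classical.arbitrary SO)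
        have h3 := cl_le_ker_range ρ
        have hker : cl ρ.ker = cl (Kj (j + 1)) := by
          refine cl_congr
            { toFun := fun h => ⟨(h : Kj j), (h : Kj j).2.1, fun i' hi' x hx => ?_⟩
              invFun := fun h => ⟨⟨h, h.2.1, fun i' hi' => h.2.2 i' (by omega)⟩, ?_⟩
              left_inv := fun h => rfl
              right_inv := fun h => rfl
              map_mul' := fun g h => rfl }
          · rcases Nat.lt_or_ge i'.val j with hlt | hge
            · exact (h : Kj j).2.2 i' hlt x hx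
            · obtain rfl : i' = i := Fin.ext (by simp only [hidef]; omega)
              by_cases hxa : x = a
              · subst hxa; exact (h : Kj j).2.1.1
              · exact congrArg Subtype.val (Equiv.ext_iff.1 (MonoidHom.mem_ker.1 h.2) ⟨x, hx, hxa⟩)
          · refine MonoidHom.mem_ker.2 (Equiv.ext fun x => Subtype.ext ?_)
            exact h.2.2 i (by simp only [hidef]; omega) x.1 x.2.1
        have h4 := ihl (j + 1) (by omega)
        rw [Nat.add_mul, one_mul]
        omega
    have hK0 := hKbound k 0 (by omega)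
    have hG₀eq : cl (Kj 0) = cl G₀ := cl_congr
      { toFun := fun h => ⟨h, h.2.1⟩
        invFun := fun h => ⟨h, h.2, fun i hi => absurd hi (Nat.not_lt_zero _)⟩
        left_inv := fun h => rfl
        right_inv := fun h => rfl
        map_mul' := fun g h => rfl }
    rw [hG₀eq] at hK0
    obtain ⟨M', hM'⟩ : ∃ M', M = M' + 2 := ⟨M - 2, by omega⟩
    rw [hM'] at hkn hK0
    rw [Nat.add_sub_cancel, show k * (4 * M') = 4 * (M' * k) by ring] at hK0
    rw [add_mul] at hkn
    omega
  · -- two regular factors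
    subst hk2'
    set O : Set α := Set.range fun s : S => D.τ i₀ s • a with hO
    set i₁ : Fin 2 := ⟨1, by omega⟩
    have h01 : i₀ ≠ i₁ := fun h => absurd (congrArg Fin.val h) (by simp [i₀, i₁])
    have hOu : ∀ i x, (Set.range fun s : S => D.τ i s • x) = Set.univ := fun i x =>
      Set.eq_of_subset_of_ncard_le (Set.subset_univ _)
        (by rw [Set.ncard_univ, hn]; exact (hMn.symm.trans (hm i x).symm).le) (Set.toFinite _)
    -- an element moving `a` as a factor element of the other factor gives a stabilizer in `N`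
    obtain ⟨s, hs⟩ := exists_ne (1 : S)
    obtain ⟨t, ht⟩ : D.τ i₀ s • a ∈ Set.range fun r : S => D.τ i₁ r • a :=
      hOu i₁ a ▸ Set.mem_univ _
    set w : G := (D.τ i₁ t)⁻¹ * D.τ i₀ s with hw
    have hwN : w ∈ N := N.mul_mem (N.inv_mem (D.τ_mem _ _)) (D.τ_mem _ _)
    have hwa : w • a = a := by
      rw [hw, mul_smul, ← show D.τ i₁ t • a = D.τ i₀ s • a from ht, inv_smul_smul]
    have hw1 : w ≠ 1 := by
      intro h
      rw [hw, inv_mul_eq_one] at h
      have e2 : (Pi.mulSingle i₁ t : Fin 2 → S) = Pi.mulSingle i₀ s :=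
        D.e.symm.injective (Subtype.ext h)
      exact hs (by simpa [Pi.mulSingle_eq_of_ne h01] using (congrFun e2 i₀).symm)
    haveI : Nontrivial φ.ker := by
      refine (Subgroup.nontrivial_iff_ne_bot _).2 fun h => hw1 ?_
      have hmem : (⟨w, hwa⟩ : stabilizer G a) ∈ φ.ker :=
        MonoidHom.mem_ker.2 ((QuotientGroup.eq_one_iff w).2 hwN)
      rw [h, Subgroup.mem_bot] at hmem
      exact congrArg Subtype.val hmem
    have h1 := one_le_cl (G := φ.ker)
    omega

end CfsgLib.CompLen
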