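import Cfsg.Agent.Lib.CompLen.Affine
import Cfsg.Agent.Lib.CompLen.Socle

/-!
The composition length of a permutation group of degree `n` with `s` orbits is at most `4 (n - s) / 3`.
-/

set_option autoImplicit false

namespace CfsgLib.CompLen

open MulAction Equiv

theorem exists_minimal_normal (G : Type) [Group G] [Finite G] [Nontrivial G] :
    ∃ N : Subgroup G, N.Normal ∧ N ≠ ⊥ ∧ ∀ L : Subgroup G, L.Normal → L ≤ N → L = ⊥ ∨ L = N := by
  haveI : Finite (Subgroup G) := Finite.of_injective _ SetLike.coe_injective
  obtain ⟨N, ⟨hNn, hN⟩, hleast⟩ := Set.exists_min_image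
    {N : Subgroup G | N.Normal ∧ N ≠ ⊥} (fun N => Nat.card N) (Set.toFinite _)
    ⟨⊤, inferInstance, fun h => bot_ne_top h.symm⟩
  exact ⟨N, hNn, hN, fun L hL hLN => or_iff_not_imp_left.2 fun hne =>
    Subgroup.eq_of_le_of_card_ge hLN (hleast L ⟨hL, hne⟩)⟩

theorem bound : ∀ n : ℕ, BoundBelow n := by
  intro n
  induction n with
  | zero => intro α _ G h; omega
  | succ n ih =>
    intro α _ G h
    rcases Nat.lt_or_ge (Nat.card α) n with hlt | hge
    · exact ih α G hlt
    have hn : Nat.card α = n := by omega
    by_cases htr : IsPretransitive G α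
    swap
    · exact bound_split ih G hn htr
    rcases Nat.lt_or_ge n 2 with hsmall | h2
    · haveI : Subsingleton α := Finite.card_le_one_iff_subsingleton.1 (by omega)
      haveI : Subsingleton G := ⟨fun g g' => Subtype.ext (Equiv.ext fun x => Subsingleton.elim _ _)⟩
      haveI : Subsingleton (Quotient (MulAction.orbitRel G α)) :=
        Function.Surjective.subsingleton Quotient.mk''_surjective
      have h1 : orb G α ≤ Nat.card α := Nat.card_le_card_of_surjective _ Quotient.mk''_surjective
      rw [cl_eq_zero]
      omega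
    have horb : orb G α = 1 := by
      haveI : Nonempty α := (Nat.card_pos_iff.1 (by omega)).1
      haveI : Subsingleton (Quotient (MulAction.orbitRel G α)) := ⟨fun p q => by
        induction p using Quotient.inductionOn' with
        | _ x =>
        induction q using Quotient.inductionOn' with
        | _ y => exact Quotient.eq''.2 (MulAction.exists_smul_eq G y x)⟩
      haveI : Nonempty (Quotient (MulAction.orbitRel G α)) := Nonempty.map Quotient.mk'' inferInstance
      exact Nat.card_unique
    by_cases hblock : ∀ B : Set α, IsBlock G B → IsTrivialBlock B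
    swap
    · push Not at hblock
      obtain ⟨B, hB, hB'⟩ := hblock
      exact bound_blocks ih G hn B hB hB'
    haveI : IsPreprimitive G α := { isTrivialBlock_of_isBlock := fun hB => hblock _ hB }
    haveI : Nontrivial G := by
      haveI : Nontrivial α := Finite.one_lt_card_iff_nontrivial.1 (by omega)
      obtain ⟨x, y, hxy⟩ := exists_pair_ne α
      obtain ⟨g, hg⟩ := MulAction.exists_smul_eq G x y
      exact ⟨⟨g, 1, fun he => hxy (by rw [← hg, he, one_smul])⟩⟩
    obtain ⟨N, hNn, hN, hmin⟩ := exists_minimal_normal G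
    have key : 3 * cl G + 4 ≤ 4 * n := by
      by_cases hab : IsMulCommutative N
      · exact bound_abelian ih G hn h2 N hN hmin hab
      haveI : Nontrivial N := (Subgroup.nontrivial_iff_ne_bot N).2 hN
      have hchar : ∀ H : Subgroup N, H.Characteristic → H = ⊥ ∨ H = ⊤ := by
        intro H hH
        haveI := hH
        rcases hmin (H.map N.subtype) inferInstance (Subgroup.map_subtype_le H) with h | h
        · exact Or.inl ((Subgroup.map_eq_bot_iff_of_injective H N.subtype_injective).1 h)
        · right
          apply Subgroup.map_injective N.subtype_injective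
          rw [h, ← MonoidHom.range_eq_map, Subgroup.range_subtype]
      obtain ⟨S, _, hS1, k, hk, ⟨e⟩⟩ := CfsgLib.CharSimple.exists_simple_mulEquiv_pi hchar
      haveI : Finite (Fin k → S) := Finite.of_equiv _ e.toEquiv
      haveI : Finite S := Finite.of_injective (fun s : S => (Pi.mulSingle (⟨0, hk⟩ : Fin k) s : Fin k → S))
        (Pi.mulSingle_injective (M := fun _ : Fin k => S) ⟨0, hk⟩)
      have hS : ∃ a b : S, a * b ≠ b * a := by
        by_contra h'
        push Not at h'
        exact hab ⟨⟨fun u v => e.injective (by rw [map_mul, map_mul]; funext i; exact h' _ _)⟩⟩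
      exact bound_nonabelian ih hn h2 hN hmin hS ⟨e⟩
    omega

universe u v

/-- The bound for a subnormal series of a finite permutation group. -/
theorem chain_bound {G : Type u} {Ω : Type v} [Group G] [Finite G] [MulAction G Ω]
    [FaithfulSMul G Ω] [Finite Ω] (l : ℕ) (H : Fin (l + 1) → Subgroup G) (hl : H (Fin.last l) = ⊤)
    (hchain : ∀ i : Fin l, H i.castSucc < H i.succ ∧ ((H i.castSucc).subgroupOf (H i.succ)).Normal) :
    3 * l + 4 * Nat.card (Quotient (MulAction.orbitRel G Ω)) ≤ 4 * Nat.card Ω := by
  classical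
  obtain ⟨e⟩ : Nonempty (Ω ≃ Fin (Nat.card Ω)) := ⟨Finite.equivFin Ω⟩
  set f : G →* Perm (Fin (Nat.card Ω)) := e.permCongrHom.toMonoidHom.comp (MulAction.toPermHom G Ω)
  have hf : Function.Injective f := e.permCongrHom.injective.comp MulAction.toPerm_injective
  set ψ := MonoidHom.ofInjective hf with hψ
  have hbd := bound (Nat.card Ω + 1) (Fin (Nat.card Ω)) f.range (by simp)
  rw [Nat.card_fin] at hbd
  have horb : Nat.card (Quotient (MulAction.orbitRel G Ω)) ≤ orb f.range (Fin (Nat.card Ω)) := by
    refine Nat.card_le_card_of_surjective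
      (Quotient.map' (s₁ := MulAction.orbitRel f.range (Fin (Nat.card Ω))) (s₂ := MulAction.orbitRel G Ω)
        e.symm fun x y hxy => ?_) fun q => ?_
    · obtain ⟨⟨_, g, rfl⟩, he⟩ := hxy
      refine ⟨g, ?_⟩
      show g • e.symm y = e.symm x
      rw [← he]
      exact (e.symm_apply_apply _).symm
    · induction q using Quotient.inductionOn' with
      | _ x => exact ⟨Quotient.mk'' (e x), congrArg Quotient.mk'' (e.symm_apply_apply x)⟩
  have hle : l ≤ cl f.range := by
    refine le_cl_of_chain l (fun i => (H i).map ψ.toMonoidHom) (by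
      show (H (Fin.last l)).map ψ.toMonoidHom = ⊤
      rw [hl]
      exact Subgroup.map_top_of_surjective ψ.toMonoidHom ψ.surjective) fun i => ?_
    obtain ⟨h1, h2⟩ := hchain i
    refine ⟨(Subgroup.map_lt_map_iff_of_injective ψ.injective).2 h1, ⟨?_⟩⟩
    intro x hx y
    obtain ⟨u, hu, hux⟩ := Subgroup.mem_subgroupOf.1 hx
    obtain ⟨v, hv, hvy⟩ := y.2
    refine ⟨v * u * v⁻¹, h2.conj_mem ⟨u, h1.le hu⟩ hu ⟨v, hv⟩, ?_⟩
    rw [map_mul, map_mul, map_inv, hux, hvy]
    rfl
  omega

end CfsgLib.CompLen
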