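import Cfsg.Agent.Lib.CompLen.Basic
import Mathlib.GroupTheory.GroupAction.Primitive
import Mathlib.GroupTheory.GroupAction.Quotient
import Mathlib.Algebra.Group.Subgroup.Finite
import Mathlib.Algebra.Group.Action.End
import Mathlib.GroupTheory.GroupAction.SubMulAction.OfStabilizer

/-!
Composition length of permutation groups: the reductions to orbits and blocks.
-/

set_option autoImplicit false

namespace CfsgLib.CompLen

open MulAction Equiv
open scoped Pointwise

/-- The number of orbits. -/
noncomputable def orb (G α : Type*) [Group G] [MulAction G α] : ℕ :=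
  Nat.card (Quotient (MulAction.orbitRel G α))

/-- The bound in all degrees below `n`. -/
def BoundBelow (n : ℕ) : Prop :=
  ∀ (α : Type) [Finite α] (G : Subgroup (Perm α)), Nat.card α < n →
    3 * cl G + 4 * orb G α ≤ 4 * Nat.card α

theorem one_le_orb (G : Type*) {α : Type*} [Group G] [MulAction G α] [Finite α] (a : α) :
    1 ≤ orb G α := by
  haveI : Nonempty (Quotient (MulAction.orbitRel G α)) := ⟨Quotient.mk'' a⟩
  exact Nat.card_pos

theorem bound_action {n : ℕ} (ih : BoundBelow n) {K : Type} [Group K] [Finite K] {β : Type}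
    [Finite β] [MulAction K β] (hinj : ∀ k : K, (∀ b : β, k • b = b) → k = 1)
    (hβ : Nat.card β < n) : 3 * cl K + 4 * orb K β ≤ 4 * Nat.card β := by
  set f := MulAction.toPermHom K β with hf
  have hfi : Function.Injective f := by
    rw [injective_iff_map_eq_one]
    intro k hk
    refine hinj k fun b => ?_
    exact congrArg (fun σ : Perm β => σ b) hk
  have h := ih β f.range hβ
  rw [← cl_congr (MonoidHom.ofInjective hfi)] at h
  have ho : orb K β ≤ orb f.range β := by
    refine Nat.card_le_card_of_surjective
      (Quotient.map' id (s₁ := MulAction.orbitRel f.range β) (s₂ := MulAction.orbitRel K β)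
        fun x y hxy => ?_) fun q => ?_
    · obtain ⟨⟨_, k, rfl⟩, he⟩ := hxy
      exact ⟨k, he⟩
    · induction q using Quotient.inductionOn' with
      | _ b => exact ⟨Quotient.mk'' b, rfl⟩
  omega

/-- The image of a group on an invariant set, and what remains. -/
theorem bound_split {n : ℕ} (ih : BoundBelow n) {α : Type} [Finite α] (G : Subgroup (Perm α))
    (hn : Nat.card α = n) (hint : ¬ IsPretransitive G α) :
    3 * cl G + 4 * orb G α ≤ 4 * Nat.card α := by
  classical
  rcases isEmpty_or_nonempty α with hα | hα
  · haveI : Subsingleton G := ⟨fun g h => Subtype.ext (Equiv.ext fun x => isEmptyElim x)⟩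
    haveI : IsEmpty (Quotient (MulAction.orbitRel G α)) :=
      ⟨fun q => Quotient.inductionOn' q fun x => isEmptyElim x⟩
    rw [cl_eq_zero, orb, Nat.card_of_isEmpty]
    omega
  obtain ⟨a⟩ := hα
  set O : Set α := MulAction.orbit G a with hO
  let SO : SubMulAction G α :=
    { carrier := O
      smul_mem' := fun g x hx => by
        obtain ⟨h, rfl⟩ := hx
        exact ⟨g * h, mul_smul g h a⟩ }
  let SC : SubMulAction G α :=
    { carrier := Oᶜ
      smul_mem' := fun g x hx hgx => hx (by
        obtain ⟨h, he⟩ := hgx
        exact ⟨g⁻¹ * h, by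
          show (g⁻¹ * h) • a = x
          rw [mul_smul, show h • a = g • x from he, inv_smul_smul]⟩) }
  have hsum : Nat.card SO + Nat.card SC = Nat.card α := by
    rw [← Nat.card_sum]
    exact Nat.card_congr (Equiv.Set.sumCompl O)
  haveI : Nonempty SO := ⟨⟨a, MulAction.mem_orbit_self a⟩⟩
  haveI : Nonempty SC := by
    by_contra h
    apply hint
    refine ⟨fun x y => ?_⟩
    have hall : ∀ z, z ∈ O := fun z => by
      by_contra hz
      exact h ⟨⟨z, hz⟩⟩
    obtain ⟨g, rfl⟩ := hall x
    obtain ⟨g', rfl⟩ := hall y
    exact ⟨g' * g⁻¹, by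
      show (g' * g⁻¹) • g • a = g' • a
      rw [mul_smul, inv_smul_smul]⟩
  have hSO : 0 < Nat.card SO := Nat.card_pos
  have hSC : 0 < Nat.card SC := Nat.card_pos
  set f := MulAction.toPermHom G SO with hf
  have h1 := bound_action ih (K := f.range) (β := SO)
    (fun k hk => Subtype.ext (Equiv.ext hk)) (by omega)
  have h2 := bound_action ih (K := f.ker) (β := SC)
    (fun k hk => by
      apply Subtype.ext; apply Subtype.ext
      refine Equiv.ext fun x => ?_
      by_cases hx : x ∈ O
      · exact congrArg Subtype.val (Equiv.ext_iff.1 (MonoidHom.mem_ker.1 k.2) ⟨x, hx⟩)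
      · exact congrArg Subtype.val (hk ⟨x, hx⟩)) (by omega)
  have h3 := cl_le_ker_range f
  have h4 : 1 ≤ orb f.range SO := one_le_orb _ (⟨a, MulAction.mem_orbit_self a⟩ : SO)
  have h5 : orb G α ≤ 1 + orb f.ker SC := by
    let φ : Option (Quotient (MulAction.orbitRel f.ker SC)) → Quotient (MulAction.orbitRel G α) :=
      fun q => q.elim (Quotient.mk'' a) (Quotient.map' Subtype.val fun x y hxy => by
        obtain ⟨k, rfl⟩ := hxy
        exact ⟨(k : G), rfl⟩)
    have hφ : Function.Surjective φ := by
      intro q
      induction q using Quotient.inductionOn' with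
      | _ x =>
        by_cases hx : x ∈ O
        · exact ⟨none, (Quotient.eq''.2 (show (MulAction.orbitRel G α) x a from hx)).symm⟩
        · exact ⟨some (Quotient.mk'' ⟨x, hx⟩), rfl⟩
    have h := Nat.card_le_card_of_surjective φ hφ
    rw [Finite.card_option] at h
    rw [orb]
    unfold orb
    omega
  omega

/-- An imprimitive transitive group. -/
theorem bound_blocks {n : ℕ} (ih : BoundBelow n) {α : Type} [Finite α] (G : Subgroup (Perm α))
    (hn : Nat.card α = n) [IsPretransitive G α] (B : Set α) (hB : IsBlock G B)
    (hB' : ¬ IsTrivialBlock B) : 3 * cl G + 4 * orb G α ≤ 4 * Nat.card α := by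
  classical
  have hBne : B.Nonempty := by
    by_contra h
    exact hB' (Or.inl (Set.not_nonempty_iff_eq_empty.1 h ▸ Set.subsingleton_empty))
  obtain ⟨a, ha⟩ := hBne
  have hmul := hB.ncard_block_mul_ncard_orbit_eq ⟨a, ha⟩
  have hb2 : 2 ≤ B.ncard := by
    by_contra h
    exact hB' (Or.inl ((Set.ncard_le_one (Set.toFinite _)).1 (by omega)))
  set β : Set (Set α) := MulAction.orbit G B with hβ
  have hc2 : 2 ≤ Nat.card β := by
    rw [Nat.card_coe_set_eq, hβ]
    by_contra h
    apply hB'
    have h1 : (MulAction.orbit G B).ncard = 1 := by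
      have : 0 < (MulAction.orbit G B).ncard := (Set.ncard_pos (Set.toFinite _)).2 ⟨B, MulAction.mem_orbit_self B⟩
      omega
    rw [h1, mul_one] at hmul
    exact Or.inr (Set.eq_of_subset_of_ncard_le (Set.subset_univ _)
      (by rw [Set.ncard_univ, hmul]) (Set.toFinite _))
  have hβn : Nat.card β < n := by
    rw [Nat.card_coe_set_eq, ← hn, ← hmul]
    have : 0 < (MulAction.orbit G B).ncard := (Set.ncard_pos (Set.toFinite _)).2 ⟨B, MulAction.mem_orbit_self B⟩
    exact lt_mul_of_one_lt_left this (by omega)
  set f := MulAction.toPermHom G β with hf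
  have h1 := bound_action ih (K := f.range) (β := β) (fun k hk => Subtype.ext (Equiv.ext hk)) hβn
  have h4 : 1 ≤ orb f.range β := one_le_orb _ (⟨B, MulAction.mem_orbit_self B⟩ : β)
  -- the kernel
  set K : Subgroup (Perm α) := f.ker.map G.subtype with hK
  let bl : α → β := fun x =>
    ⟨(Classical.choose (MulAction.exists_smul_eq G a x)) • B, MulAction.mem_orbit _ _⟩
  have hmemK : ∀ k ∈ K, ∀ (g : G), (k • (g • B)) = g • B := by
    rintro _ ⟨k, hk, rfl⟩ g
    exact congrArg Subtype.val (Equiv.ext_iff.1 (MonoidHom.mem_ker.1 hk) ⟨g • B, MulAction.mem_orbit _ _⟩)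
  have hbl : ∀ (x : α) (g : G), x ∈ g • B → (bl x : Set α) = g • B := by
    intro x g hx
    have hx' : x ∈ (bl x : Set α) := by
      have := Classical.choose_spec (MulAction.exists_smul_eq G a x)
      exact ⟨a, ha, this⟩
    rcases hB.smul_eq_smul_or_disjoint (Classical.choose (MulAction.exists_smul_eq G a x)) g with h | h
    · exact h
    · exact absurd hx (fun hxg => Set.disjoint_left.1 h hx' hxg)
  have horb : Nat.card β ≤ orb K α := by
    refine Nat.card_le_card_of_surjective (Quotient.lift (fun x => bl x) fun x y hxy => ?_) ?_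
    · obtain ⟨⟨k, hk⟩, hkx⟩ := hxy
      obtain ⟨g, hg⟩ := (bl y).2
      apply Subtype.ext
      have hy : y ∈ g • B := by
        rw [show g • B = (bl y : Set α) from hg]
        exact ⟨a, ha, Classical.choose_spec (MulAction.exists_smul_eq G a y)⟩
      rw [show (bl y : Set α) = g • B from hg.symm]
      refine hbl x g ?_
      rw [← hkx, ← hmemK k hk g]
      exact Set.smul_mem_smul_set hy
    · rintro ⟨_, g, rfl⟩
      exact ⟨Quotient.mk _ (g • a), Subtype.ext (hbl _ g (Set.smul_mem_smul_set ha))⟩
  have hKint : ¬ IsPretransitive K α := by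
    intro h
    have h1 : orb K α ≤ 1 := by
      haveI : Subsingleton (Quotient (MulAction.orbitRel K α)) := ⟨fun p q => by
        induction p using Quotient.inductionOn' with
        | _ x =>
        induction q using Quotient.inductionOn' with
        | _ y => exact Quotient.eq''.2 (MulAction.exists_smul_eq K y x)⟩
      exact Finite.card_le_one_iff_subsingleton.2 inferInstance
    omega
  have h2 := bound_split ih K hn hKint
  rw [← cl_congr (Subgroup.equivMapOfInjective f.ker G.subtype G.subtype_injective)] at h2
  have h3 := cl_le_ker_range f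
  have h5 : orb G α = 1 := by
    haveI : Subsingleton (Quotient (MulAction.orbitRel G α)) := ⟨fun p q => by
      induction p using Quotient.inductionOn' with
      | _ x =>
      induction q using Quotient.inductionOn' with
      | _ y => exact Quotient.eq''.2 (MulAction.exists_smul_eq G y x)⟩
    haveI : Nonempty (Quotient (MulAction.orbitRel G α)) := ⟨Quotient.mk'' a⟩
    exact Nat.card_unique
  omega

/-- The stabilizer of a point of a transitive group. -/
theorem bound_stabilizer {n : ℕ} (ih : BoundBelow n) {α : Type} [Finite α] (G : Subgroup (Perm α))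
    (hn : Nat.card α = n) (h2 : 2 ≤ n) (a : α) :
    3 * cl (stabilizer G a) + 4 ≤ 4 * (n - 1) := by
  classical
  letI := Fintype.ofFinite α
  have hcard : Nat.card (SubMulAction.ofStabilizer G a) = n - 1 := by
    have h : Nat.card (SubMulAction.ofStabilizer G a) = ((Finset.univ : Finset α).erase a).card := by
      rw [Nat.card_eq_fintype_card]
      exact Fintype.card_of_subtype _ fun x => by
        rw [Finset.mem_erase]
        exact ⟨fun h => h.1, fun h => ⟨h, Finset.mem_univ x⟩⟩
    rw [h, Finset.card_erase_of_mem (Finset.mem_univ a), Finset.card_univ, ← Nat.card_eq_fintype_card, hn]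
  haveI : Nonempty (SubMulAction.ofStabilizer G a) := (Nat.card_pos_iff.1 (by omega)).1
  have h := bound_action ih (K := stabilizer G a) (β := SubMulAction.ofStabilizer G a)
    (fun k hk => by
      apply Subtype.ext; apply Subtype.ext
      refine Equiv.ext fun x => ?_
      by_cases hx : x = a
      · subst hx; exact k.2
      · exact congrArg Subtype.val (hk ⟨x, hx⟩)) (by omega)
  have := one_le_orb (stabilizer G a) (Classical.arbitrary (SubMulAction.ofStabilizer G a))
  omega

end CfsgLib.CompLen
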